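import Groth.Agent.FppfBoot.PieceRep

/-!
# The scheme of finite pieces of a flat locally quasi-finite morphism of schemes
-/

set_option autoImplicit false
set_option backward.isDefEq.respectTransparency false
set_option backward.isDefEq.respectTransparency.types false

universe u

open CategoryTheory CategoryTheory.Limits AlgebraicGeometry Opposite AlgSp

noncomputable section

namespace Groth.QSplit

open Groth.FppfBoot Groth.AlgSpBasic Groth.AlgSpBoot

variable {W U : Scheme.{u}} (f : W ⟶ U)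

/-- The base change of `f` along `a` mapped to the one along `π`. -/
def pb {H T : Scheme.{u}} {π : H ⟶ U} {a : T ⟶ U} (l : T ⟶ H) (h : l ≫ π = a) :
    pullback f a ⟶ pullback f π :=
  pullback.lift (pullback.fst f a) (pullback.snd f a ≫ l) (by rw [Category.assoc, h, pullback.condition])

@[reassoc (attr := simp)]
theorem pb_fst {H T : Scheme.{u}} {π : H ⟶ U} {a : T ⟶ U} (l : T ⟶ H) (h : l ≫ π = a) :
    pb f l h ≫ pullback.fst f π = pullback.fst f a := pullback.lift_fst _ _ _

@[reassoc (attr := simp)]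
theorem pb_snd {H T : Scheme.{u}} {π : H ⟶ U} {a : T ⟶ U} (l : T ⟶ H) (h : l ≫ π = a) :
    pb f l h ≫ pullback.snd f π = pullback.snd f a ≫ l := pullback.lift_snd _ _ _

/-- A scheme étale over the base with a universal piece of `f`. -/
structure PieceData where
  H : Scheme.{u}
  π : H ⟶ U
  Z : (pullback f π).Opens
  etale : Etale π
  separated : IsSeparated π
  piece : IsPiece (pullback.snd f π) Z
  lift' : ∀ {T : Scheme.{u}} (a : T ⟶ U) (Z' : (pullback f a).Opens), IsPiece (pullback.snd f a) Z' →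
    ∃ (l : T ⟶ H) (h : l ≫ π = a), pb f l h ⁻¹ᵁ Z = Z'
  ext' : ∀ {T : Scheme.{u}} (a : T ⟶ U) (l l' : T ⟶ H) (h : l ≫ π = a) (h' : l' ≫ π = a),
    pb f l h ⁻¹ᵁ Z = pb f l' h' ⁻¹ᵁ Z → l = l'

/-- The scheme of pieces exists. -/
theorem exists_pieceData [IsSeparated f] [Flat f] [LocallyOfFinitePresentation f] [LocallyQuasiFinite f] :
    Nonempty (PieceData f) := by
  let W' : Over U := Over.mk f
  let T₀ : Over U := Over.mk (𝟙 U)
  let q : W' ⟶ T₀ := Over.homMk f (Category.comp_id _)
  let p : (yon U).obj W' ⟶ (yon U).obj T₀ := (yon U).map q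
  have hp : RepWith (@Flat ⊓ @LocallyOfFinitePresentation) p :=
    (repWith_yon_map_iff _ q).2 ⟨inferInstanceAs (Flat f), inferInstanceAs (LocallyOfFinitePresentation f)⟩
  have hq : RepWith @LocallyQuasiFinite p := (repWith_yon_map_iff _ q).2 (inferInstanceAs (LocallyQuasiFinite f))
  have : IsSeparated W'.hom := inferInstanceAs (IsSeparated f)
  obtain ⟨H, fst, ĝ, hĝe, hĝs, sqG⟩ := exists_pieces_scheme hp hq (𝟙 ((yon U).obj T₀))
  have hsub : ∀ {T : Over U}, Subsingleton ((yon U).obj T ⟶ (yon U).obj T₀) := fun {T} => ⟨fun x y => by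
    obtain ⟨x', rfl⟩ := (yon U).map_surjective x
    obtain ⟨y', rfl⟩ := (yon U).map_surjective y
    congr 1
    apply Over.OverMorphism.ext
    exact ((Category.comp_id _).symm.trans (Over.w x')).trans
      ((Category.comp_id _).symm.trans (Over.w y')).symm⟩
  have hĝ : ĝ.left = H.hom := by
    have := Over.w ĝ
    simpa [T₀] using this
  -- charts as fibre products
  have sqR : ∀ {T : Over U} (b : (yon U).obj T ⟶ (yon U).obj T₀),
      IsPullback (hp.rep.fst' b).left (rsnd hp b) f T.hom := by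
    intro T b
    obtain ⟨b', rfl⟩ := (yon U).map_surjective b
    have hb : b'.left = T.hom := by
      have := Over.w b'
      simpa [T₀] using this
    rw [← hb]
    exact isPullback_left (isPullback_of_yon (hp.rep.isPullback' ((yon U).map b')))
  let eI : ∀ {T : Over U} (b : (yon U).obj T ⟶ (yon U).obj T₀), (Rp hp b).left ≅ pullback f T.hom :=
    fun b => (sqR b).isoPullback
  have sqI : ∀ {T : Over U} (b : (yon U).obj T ⟶ (yon U).obj T₀),
      IsPullback (eI b).hom (rsnd hp b) (pullback.snd f T.hom) (𝟙 _) := fun b =>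
    IsPullback.of_horiz_isIso ⟨by rw [(sqR b).isoPullback_hom_snd, Category.comp_id]⟩
  have sqI' : ∀ {T : Over U} (b : (yon U).obj T ⟶ (yon U).obj T₀),
      IsPullback (eI b).inv (pullback.snd f T.hom) (rsnd hp b) (𝟙 _) := fun b =>
    IsPullback.of_horiz_isIso ⟨by rw [(sqR b).isoPullback_inv_snd, Category.comp_id]⟩
  let u : Σ b : (yon U).obj H ⟶ (yon U).obj T₀, PieceOn hp b := pEquiv fst
  let Z : (pullback f H.hom).Opens := (eI u.1).inv ⁻¹ᵁ u.2.1
  have hnat : ∀ {T : Over U} (m : T ⟶ H) (b : (yon U).obj T ⟶ (yon U).obj T₀)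
      (h : (yon U).map m ≫ u.1 = b),
      (trans hp u.1 b m h).left = (eI b).hom ≫ pb f m.left (Over.w m) ≫ (eI u.1).inv := by
    intro T m b h
    rw [← Category.assoc, Iso.eq_comp_inv]
    apply pullback.hom_ext
    · rw [Category.assoc, (sqR u.1).isoPullback_hom_fst, Category.assoc, pb_fst, (sqR b).isoPullback_hom_fst,
        ← Over.comp_left, trans_fst]
    · rw [Category.assoc, (sqR u.1).isoPullback_hom_snd, Category.assoc, pb_snd,
        ← Category.assoc, (sqR b).isoPullback_hom_snd]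
      exact congr(($(trans_snd hp u.1 b m h)).left)
  have hpull : ∀ {T : Over U} (m : T ⟶ H) (b : (yon U).obj T ⟶ (yon U).obj T₀)
      (h : (yon U).map m ≫ u.1 = b),
      (u.2.pull m h).1 = (eI b).hom ⁻¹ᵁ pb f m.left (Over.w m) ⁻¹ᵁ Z := fun m b h => by
    change (trans hp u.1 b m h).left ⁻¹ᵁ u.2.1 = _
    rw [hnat m b h]
    rfl
  have hext : ∀ {T : Over U} (m m' : T ⟶ H), (pieces hp).map m.op u = (pieces hp).map m'.op u → m = m' :=
    fun {T} m m' e => congrArg ULift.down ((Types.isPullback_iff _ _ _ _).1 (isPullback_app _ sqG T) |>.2.1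
      ⟨m⟩ ⟨m'⟩ ⟨by rw [app_eq_map, app_eq_map]; exact e, congrArg ULift.up (by
        apply Over.OverMorphism.ext
        exact ((congrArg (m.left ≫ ·) hĝ).trans (Over.w m)).trans
          ((congrArg (m'.left ≫ ·) hĝ).trans (Over.w m')).symm)⟩)
  have hex : ∀ {T : Over U} (x : (pieces hp).obj (op T)), ∃ m : T ⟶ H, (pieces hp).map m.op u = x := by
    intro T x
    let k : T ⟶ T₀ := Over.homMk T.hom (Category.comp_id _)
    obtain ⟨⟨m⟩, hm₁, -⟩ := (Types.isPullback_iff _ _ _ _).1 (isPullback_app _ sqG T) |>.2.2 x ⟨k⟩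
      ((piecesMap_eq_iff (𝟙 _) k x).2 (hsub.elim _ _))
    exact ⟨m, (app_eq_map fst m).symm.trans hm₁⟩
  refine ⟨⟨H.left, H.hom, Z, hĝ ▸ hĝe, hĝ ▸ hĝs, u.2.2.preimage (sqI' u.1), ?_, ?_⟩⟩
  · intro T a Z' hZ'
    let T' : Over U := Over.mk a
    let b : (yon U).obj T' ⟶ (yon U).obj T₀ := (yon U).map (Over.homMk a (Category.comp_id _))
    obtain ⟨m, hm⟩ := hex (⟨b, ⟨(eI b).hom ⁻¹ᵁ Z', hZ'.preimage (sqI b)⟩⟩ :
      Σ b : (yon U).obj T' ⟶ (yon U).obj T₀, PieceOn hp b)
    refine ⟨m.left, Over.w m, ?_⟩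
    have e := congrArg Subtype.val (piece_eq_of_sec_eq ((pieces_map_mk u.2 m (hsub.elim _ b)).symm.trans hm))
    rw [hpull] at e
    have := congrArg ((eI b).inv ⁻¹ᵁ ·) e
    simp only [← Scheme.Hom.comp_preimage, ← Category.assoc, Iso.inv_hom_id, Category.id_comp] at this
    exact this.trans (by rfl)
  · intro T a l l' h h' e
    let T' : Over U := Over.mk a
    let b : (yon U).obj T' ⟶ (yon U).obj T₀ := (yon U).map (Over.homMk a (Category.comp_id _))
    let m : T' ⟶ H := Over.homMk l h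
    let m' : T' ⟶ H := Over.homMk l' h'
    have := hext m m' ((pieces_map_mk u.2 m (hsub.elim _ b)).trans
      (Eq.trans (congrArg (Sigma.mk b) (Subtype.ext (by
        rw [hpull, hpull]
        exact congrArg ((eI b).hom ⁻¹ᵁ ·) e))) (pieces_map_mk u.2 m' (hsub.elim _ b)).symm))
    exact congr(($this).left)

end Groth.QSplit
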