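import Groth.Agent.GitQuot.QSplit.Main
import Groth.Agent.FlatMor2.IndQuasiAffine
import Groth.Agent.PropsBasic.QuasiAffineSection
import Groth.Prelude.Def_Dual3

/-!
# Affine charts around finitely many quasi-finite loops; the two loop sets used for splitting
-/

set_option autoImplicit false
set_option backward.isDefEq.respectTransparency.types false

universe u

open CategoryTheory CategoryTheory.Limits AlgebraicGeometry

noncomputable section

namespace Groth.QSplit

open Groth.GrpdBasic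

/-- Finitely many quasi-finite points of a separated morphism to an affine scheme have a common affine
neighbourhood on which it is locally quasi-finite. -/
theorem exists_affine_qf {X Y : Scheme.{u}} (f : X ⟶ Y) [IsSeparated f] [LocallyOfFiniteType f] [IsAffine Y]
    (E : Set X) (hE : E.Finite) (hq : ∀ x ∈ E, Dual3.QuasiFiniteAt f x) :
    ∃ W : X.Opens, IsAffineOpen W ∧ E ⊆ W ∧ LocallyQuasiFinite (W.ι ≫ f) := by
  classical
  let L : X.Opens := ⟨{x | f.QuasiFiniteAt x}, f.isOpen_quasiFiniteAt⟩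
  have hEL : E ⊆ L := fun x hx => Scheme.Hom.quasiFiniteAt_iff_isOpen_singleton_asFiber.2 (hq x hx)
  have : LocallyQuasiFinite (L.ι ≫ f) := by
    rw [← Scheme.Hom.quasiFiniteLocus_eq_top_iff, eq_top_iff]
    intro q _
    show (L.ι ≫ f).QuasiFiniteAt q
    rw [Scheme.Hom.quasiFiniteAt_comp_iff_of_isOpenImmersion]
    exact q.2
  have : IsSeparated (L.ι ≫ f) := inferInstance
  let E' : Set L.toScheme := L.ι ⁻¹' E
  have hE' : E'.Finite := hE.preimage L.ι.isOpenEmbedding.injective.injOn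
  obtain ⟨U, -, hEU, hU⟩ := Groth.FlatMor2.exists_isCompact_open_between (X := L.toScheme) hE'.isCompact
    (W := ⊤) (Set.subset_univ _)
  have hqa := (Groth.FlatMor2.isIndQuasiAffineHom_def (f := L.ι ≫ f)).1
    Groth.FlatMor2.isIndQuasiAffineHom_of_separated_locallyQuasiFinite ⊤ (isAffineOpen_top Y) U
    (fun _ _ => trivial) hU
  obtain ⟨g, hg, hgE, -⟩ := Groth.PropsBasic.Ample.exists_affine_basicOpen_of_finite (X := U.toScheme) ⊤
    (hE'.preimage U.ι.isOpenEmbedding.injective.injOn).toFinset (fun _ _ => trivial)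
  let W₁ : L.toScheme.Opens := U.ι ''ᵁ U.toScheme.basicOpen g
  let W : X.Opens := L.ι ''ᵁ W₁
  have hW : IsAffineOpen W := (hg.image_of_isOpenImmersion U.ι).image_of_isOpenImmersion L.ι
  refine ⟨W, hW, fun x hx => ?_, ?_⟩
  · have hx' : (⟨x, hEL hx⟩ : L.toScheme) ∈ U := hEU hx
    exact ⟨⟨x, hEL hx⟩, ⟨⟨_, hx'⟩, hgE _ ((Set.Finite.mem_toFinset _).2 hx), rfl⟩, rfl⟩
  · rw [← Scheme.Hom.quasiFiniteLocus_eq_top_iff, eq_top_iff]
    intro q _
    show (W.ι ≫ f).QuasiFiniteAt q
    rw [Scheme.Hom.quasiFiniteAt_comp_iff_of_isOpenImmersion]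
    obtain ⟨l, -, hl⟩ := q.2
    show f.QuasiFiniteAt (W.ι q)
    rw [show W.ι q = L.ι l from hl.symm]
    exact l.2

variable {S : Scheme.{u}} (G : Grpd.GroupoidScheme S)

theorem e_i : G.e ≫ G.i = G.e := by
  have h : G.e ≫ G.s = (G.e ≫ G.i) ≫ G.t := by rw [Category.assoc, G.i_t]
  have e : comp G G.e (G.e ≫ G.i) h = (G.e ≫ G.t) ≫ G.e := comp_inv G G.e
  have h' : (G.e ≫ G.i) ≫ G.t = 𝟙 G.U := by rw [Category.assoc, G.i_t, G.e_s]
  have e' := unit_comp G (G.e ≫ G.i) h'
  rw [G.e_t, Category.id_comp] at e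
  exact e'.symm.trans ((comp_congr G _ (Category.id_comp _) rfl).trans e)

variable {G} {W : G.R.Opens} {u : G.U}

/-- The identity alone. -/
theorem isLoopSet_singleton (h : G.e u ∈ W) : IsLoopSet (W := W) u {G.e u} where
  fin := Set.finite_singleton _
  sub := Set.singleton_subset_iff.2 h
  src r hr := by rw [Set.mem_singleton_iff.1 hr, ← Scheme.Hom.comp_apply, G.e_s]; rfl
  tgt r hr := by rw [Set.mem_singleton_iff.1 hr, ← Scheme.Hom.comp_apply, G.e_t]; rfl
  one := rfl
  inv r hr := by rw [Set.mem_singleton_iff.1 hr, Set.mem_singleton_iff, ← Scheme.Hom.comp_apply, e_i]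
  mul K _ γ β hγβ hγ hβ := by
    have key : ∀ δ : Spec (CommRingCat.of K) ⟶ G.R, Set.range δ ⊆ {G.e u} → δ = (δ ≫ G.s) ≫ G.e := by
      intro δ hδ
      have : IsPreimmersion (G.e ≫ G.s) := by rw [G.e_s]; infer_instance
      have := isIso_residueFieldMap_of_comp G.e G.s u
      refine eq_of_isIso_residueFieldMap G.s (G.e u) _ _ hδ ?_ (by rw [Category.assoc, G.e_s, Category.comp_id])
      rintro _ ⟨y, rfl⟩
      rw [Set.mem_singleton_iff, Scheme.Hom.comp_apply, Scheme.Hom.comp_apply, Set.mem_singleton_iff.1 (hδ ⟨y, rfl⟩),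
        ← Scheme.Hom.comp_apply G.e G.s, G.e_s]
      rfl
    have hb : (β ≫ G.s) = γ ≫ G.s := by
      rw [hγβ]
      conv_rhs => rw [key β hβ]
      simp only [Category.assoc, G.e_t, Category.comp_id]
    have : comp G γ β hγβ = γ := (comp_congr G hγβ rfl ((key β hβ).trans (congrArg (· ≫ G.e) hb))).trans
      (comp_unit G γ rfl)
    rw [this]
    exact hγ

/-- All the loops. -/
theorem isLoopSet_loops (hfin : {r : G.R | G.s r = u ∧ G.t r = u}.Finite)
    (h : {r : G.R | G.s r = u ∧ G.t r = u} ⊆ W) : IsLoopSet (W := W) u {r : G.R | G.s r = u ∧ G.t r = u} where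
  fin := hfin
  sub := h
  src _ hr := hr.1
  tgt _ hr := hr.2
  one := ⟨by rw [← Scheme.Hom.comp_apply, G.e_s]; rfl, by rw [← Scheme.Hom.comp_apply, G.e_t]; rfl⟩
  inv _ hr := ⟨by rw [← Scheme.Hom.comp_apply, G.i_s]; exact hr.2,
    by rw [← Scheme.Hom.comp_apply, G.i_t]; exact hr.1⟩
  mul K _ γ β hγβ hγ hβ := by
    rintro _ ⟨y, rfl⟩
    refine ⟨?_, ?_⟩
    · rw [← Scheme.Hom.comp_apply, GrpdBasic.comp_s, Scheme.Hom.comp_apply]
      exact (hβ ⟨y, rfl⟩).1
    · rw [← Scheme.Hom.comp_apply, GrpdBasic.comp_t, Scheme.Hom.comp_apply]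
      exact (hγ ⟨y, rfl⟩).2

end Groth.QSplit
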