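import Groth.Agent.GitQuot.QSplit.Member

/-!
# Pieces containing the identity and closed under quotients of pairs
-/

set_option autoImplicit false
set_option backward.isDefEq.respectTransparency.types false

universe u

open CategoryTheory CategoryTheory.Limits AlgebraicGeometry

noncomputable section

namespace Groth.QSplit

open Groth.GrpdBasic Groth.FppfBoot

variable {S : Scheme.{u}} {G : Grpd.GroupoidScheme S} {W : G.R.Opens} (D : PieceData (W.ι ≫ G.s))

/-- Pieces whose base point has identity in `W`. -/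
abbrev idDom : D.H.Opens := D.π ⁻¹ᵁ G.e ⁻¹ᵁ W

theorem range_idDom : Set.range ((idDom D).ι ≫ D.π ≫ G.e) ⊆ Set.range W.ι := by
  rintro _ ⟨y, rfl⟩
  rw [Scheme.Opens.range_ι, Scheme.Hom.comp_apply, Scheme.Hom.comp_apply]
  exact y.2

/-- The identity as a point of the base change of the chart. -/
def idPoint : (idDom D).toScheme ⟶ pullback (W.ι ≫ G.s) D.π :=
  pullback.lift (IsOpenImmersion.lift W.ι ((idDom D).ι ≫ D.π ≫ G.e) (range_idDom D)) (idDom D).ι
    (by rw [← Category.assoc, IsOpenImmersion.lift_fac, Category.assoc, Category.assoc, G.e_s, Category.comp_id])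

/-- Pieces containing the identity. -/
def idLocus : D.H.Opens := (idDom D).ι ''ᵁ (idPoint D ⁻¹ᵁ D.Z)

variable {D} {T : Scheme.{u}} {l : T ⟶ D.H}

theorem mem_id_of_idLocus (h : Set.range l ⊆ idLocus D) : Mem D l (l ≫ D.π ≫ G.e) := by
  have h' : Set.range l ⊆ Set.range (idDom D).ι := by
    rintro _ ⟨y, rfl⟩
    obtain ⟨z, -, hz⟩ := h ⟨y, rfl⟩
    exact ⟨z, hz⟩
  let l' := IsOpenImmersion.lift (idDom D).ι l h'
  have hl' : l' ≫ (idDom D).ι = l := IsOpenImmersion.lift_fac _ _ _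
  rw [mem_iff (D := D) (by rw [Category.assoc, Category.assoc, G.e_s, Category.comp_id]) (l' ≫ idPoint D)
    (by rw [Category.assoc, idPoint, pullback.lift_fst_assoc, IsOpenImmersion.lift_fac, ← Category.assoc, hl'])
    (by rw [Category.assoc, idPoint, pullback.lift_snd, hl'])]
  rintro _ ⟨y, rfl⟩
  obtain ⟨z, hz, hzy⟩ := h ⟨y, rfl⟩
  have : l' y = z := (idDom D).ι.isOpenEmbedding.injective (by
    rw [← Scheme.Hom.comp_apply, hl']; exact hzy.symm)
  rw [Scheme.Hom.comp_apply, this]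
  exact hz

theorem idLocus_of_mem_id (h : Mem D l (l ≫ D.π ≫ G.e)) : Set.range l ⊆ idLocus D := by
  have h' : Set.range l ⊆ Set.range (idDom D).ι := by
    rintro _ ⟨y, rfl⟩
    rw [Scheme.Opens.range_ι]
    exact h.range_subset ⟨y, by simp only [Scheme.Hom.comp_apply]⟩
  let l' := IsOpenImmersion.lift (idDom D).ι l h'
  have hl' : l' ≫ (idDom D).ι = l := IsOpenImmersion.lift_fac _ _ _
  rw [mem_iff (D := D) (by rw [Category.assoc, Category.assoc, G.e_s, Category.comp_id]) (l' ≫ idPoint D)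
    (by rw [Category.assoc, idPoint, pullback.lift_fst_assoc, IsOpenImmersion.lift_fac, ← Category.assoc, hl'])
    (by rw [Category.assoc, idPoint, pullback.lift_snd, hl'])] at h
  rintro _ ⟨y, rfl⟩
  exact ⟨l' y, h ⟨y, Scheme.Hom.comp_apply _ _ _⟩, (Scheme.Hom.comp_apply l' (idDom D).ι y).symm.trans (congrArg (fun k : T ⟶ D.H => k y) hl')⟩

variable (D)

/-- Pairs of elements of the same piece. -/
abbrev pairs : Scheme.{u} := pullback (σ D) (σ D)

theorem pairs_cond : (pullback.snd (σ D) (σ D) ≫ ρ D) ≫ G.s =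
    ((pullback.fst (σ D) (σ D) ≫ ρ D) ≫ G.i) ≫ G.t := by
  rw [Category.assoc _ G.i, G.i_t]
  refine (Category.assoc _ _ _).trans (Eq.trans ?_ (Category.assoc _ _ _).symm)
  rw [ρ_s, pullback.condition_assoc]

/-- The quotient of two elements of a piece. -/
def quot : pairs D ⟶ G.R :=
  comp G (pullback.snd (σ D) (σ D) ≫ ρ D) ((pullback.fst (σ D) (σ D) ≫ ρ D) ≫ G.i) (pairs_cond D)

/-- Pieces with a pair whose quotient is not in `W`. -/
def badLocus : Set D.H := (pullback.fst (σ D) (σ D) ≫ σ D) '' (quot D ⁻¹' (W : Set G.R)ᶜ)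

theorem isClosed_badLocus : IsClosed (badLocus D) :=
  (pullback.fst (σ D) (σ D) ≫ σ D).isClosedMap _ (W.2.isClosed_compl.preimage (quot D).continuous)

/-- The good pieces. -/
def good : D.H.Opens := idLocus D ⊓ ⟨(badLocus D)ᶜ, (isClosed_badLocus D).isOpen_compl⟩

/-- The map lands in good pieces. -/
def IsGood {T : Scheme.{u}} (l : T ⟶ D.H) : Prop := Set.range l ⊆ good D

variable {D}

theorem IsGood.precomp (h : IsGood D l) {T' : Scheme.{u}} (m : T' ⟶ T) : IsGood D (m ≫ l) := by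
  rintro _ ⟨y, rfl⟩
  exact h ⟨m y, (Scheme.Hom.comp_apply _ _ _).symm⟩

theorem IsGood.mem_id (h : IsGood D l) : Mem D l (l ≫ D.π ≫ G.e) :=
  mem_id_of_idLocus fun _ hy => (h hy).1

theorem pair_cond {β γ : T ⟶ G.R} (hβ : Mem D l β) (hγ : Mem D l γ) :
    γ ≫ G.s = (β ≫ G.i) ≫ G.t := by
  rw [Category.assoc, G.i_t, hβ.s_eq, hγ.s_eq]

theorem IsGood.range_quot (h : IsGood D l) {β γ : T ⟶ G.R} (hβ : Mem D l β) (hγ : Mem D l γ) :
    Set.range (comp G γ (β ≫ G.i) (pair_cond hβ hγ)) ⊆ W := by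
  obtain ⟨b, hb, rfl⟩ := hβ
  obtain ⟨c, hc, rfl⟩ := hγ
  let q : T ⟶ pairs D := pullback.lift b c (hb.trans hc.symm)
  have e : q ≫ quot D = comp G (c ≫ ρ D) ((b ≫ ρ D) ≫ G.i) (pair_cond ⟨b, hb, rfl⟩ ⟨c, hc, rfl⟩) := by
    rw [quot, precomp_comp]
    exact comp_congr G _ (pullback.lift_snd_assoc _ _ _ _)
      (by simp only [q, ← Category.assoc, pullback.lift_fst])
  rw [← e]
  rintro _ ⟨y, rfl⟩
  rw [Scheme.Hom.comp_apply]
  by_contra hn
  refine (h ⟨y, rfl⟩).2 ⟨q y, hn, ?_⟩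
  rw [← Scheme.Hom.comp_apply, pullback.lift_fst_assoc, hb]

theorem isGood_of (hid : Mem D l (l ≫ D.π ≫ G.e))
    (hpair : ∀ (K : Type u) [Field K] (m : Spec (CommRingCat.of K) ⟶ T)
      (β γ : Spec (CommRingCat.of K) ⟶ G.R) (hβ : Mem D (m ≫ l) β) (hγ : Mem D (m ≫ l) γ),
      Set.range (comp G γ (β ≫ G.i) (pair_cond hβ hγ)) ⊆ W) : IsGood D l := by
  intro h hh
  refine ⟨idLocus_of_mem_id hid hh, ?_⟩
  rintro ⟨q, hq, hqh⟩
  obtain ⟨y, rfl⟩ := hh
  obtain ⟨z, hz₁, hz₂⟩ := Scheme.Pullback.exists_preimage_pullback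
    (f := pullback.fst (σ D) (σ D) ≫ σ D) (g := l) q y hqh
  let ξ := (pullback (pullback.fst (σ D) (σ D) ≫ σ D) l).fromSpecResidueField z
  let n := ξ ≫ pullback.fst (pullback.fst (σ D) (σ D) ≫ σ D) l
  let m := ξ ≫ pullback.snd (pullback.fst (σ D) (σ D) ≫ σ D) l
  have hm : n ≫ pullback.fst (σ D) (σ D) ≫ σ D = m ≫ l := by
    simp only [n, m, Category.assoc]
    exact congrArg (ξ ≫ ·) pullback.condition
  have hm' : n ≫ pullback.snd (σ D) (σ D) ≫ σ D = m ≫ l := (congrArg (n ≫ ·) pullback.condition.symm).trans hm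
  have hβ : Mem D (m ≫ l) (n ≫ pullback.fst (σ D) (σ D) ≫ ρ D) :=
    ⟨n ≫ pullback.fst _ _, (Category.assoc _ _ _).trans hm, Category.assoc _ _ _⟩
  have hγ : Mem D (m ≫ l) (n ≫ pullback.snd (σ D) (σ D) ≫ ρ D) :=
    ⟨n ≫ pullback.snd _ _, (Category.assoc _ _ _).trans hm', Category.assoc _ _ _⟩
  have e : n ≫ quot D = comp G (n ≫ pullback.snd (σ D) (σ D) ≫ ρ D)
      ((n ≫ pullback.fst (σ D) (σ D) ≫ ρ D) ≫ G.i) (pair_cond hβ hγ) := by
    rw [quot, precomp_comp]
    exact comp_congr G _ rfl (Category.assoc _ _ _).symm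
  have hK : Set.range (n ≫ quot D) ⊆ W := by rw [e]; exact hpair _ m _ _ hβ hγ
  refine hq (show quot D q ∈ W from ?_)
  have := hK ⟨IsLocalRing.closedPoint _, rfl⟩
  rwa [Scheme.Hom.comp_apply, Scheme.Hom.comp_apply, Scheme.fromSpecResidueField_apply, hz₁] at this

end Groth.QSplit
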