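import Groth.Agent.GitQuot.QSplit.Point
import Groth.Agent.GitQuot.GrpdPullback
import Groth.Agent.GitQuot.GrpdInvAffine
import Groth.Agent.GitQuot.GrpdRestrict

/-!
# Étale neighbourhoods over which a groupoid is (strongly) quasi-split
-/

set_option autoImplicit false
set_option backward.isDefEq.respectTransparency.types false

universe u

open CategoryTheory CategoryTheory.Limits AlgebraicGeometry

noncomputable section

namespace Groth.QSplit

open Groth.GrpdBasic Groth.FppfBoot

variable {S : Scheme.{u}} (G : Grpd.GroupoidScheme S) {U' : Scheme.{u}} (φ : U' ⟶ G.U)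

/-- The pulled back groupoid maps to the groupoid. -/
@[reducible] def pullbackHom : Grpd.GroupoidScheme.Hom (GrpdPullback.grpd G φ) G where
  fU := φ
  fR := GrpdPullback.arrow G φ
  fU_over := rfl
  comm_s := GrpdPullback.arrow_s G φ
  comm_t := GrpdPullback.arrow_t G φ
  comm_c α β h := GrpdPullback.lift_c'_arrow α β h

/-- The arrows of the pulled back groupoid are the base change of `(t, s)`. -/
theorem isPullback_j :
    IsPullback (GrpdPullback.arrow G φ) (GrpdPullback.grpd G φ).j G.j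
      (pullback.map (GrpdPullback.grpd G φ).pU (GrpdPullback.grpd G φ).pU G.pU G.pU φ φ (𝟙 S)
        (Category.comp_id _) (Category.comp_id _)) := by
  let G' := GrpdPullback.grpd G φ
  let M := pullback.map G'.pU G'.pU G.pU G.pU φ φ (𝟙 S) (Category.comp_id _) (Category.comp_id _)
  refine ⟨⟨?_⟩, ⟨PullbackCone.IsLimit.mk _
    (fun c => GrpdPullback.mk c.fst (c.snd ≫ pullback.fst _ _) (c.snd ≫ pullback.snd _ _) ?_ ?_)
    (fun c => GrpdPullback.mk_arrow _ _ _ _ _) (fun c => ?_) (fun c m h₁ h₂ => ?_)⟩⟩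
  · apply pullback.hom_ext
    · simp only [Category.assoc, pullback.lift_fst, j_fst]
      rw [← Category.assoc G'.j]
      exact (GrpdPullback.arrow_t G φ).trans (congrArg (· ≫ φ) (j_fst G').symm)
    · simp only [Category.assoc, pullback.lift_snd, j_snd]
      rw [← Category.assoc G'.j]
      exact (GrpdPullback.arrow_s G φ).trans (congrArg (· ≫ φ) (j_snd G').symm)
  · have := congrArg (· ≫ pullback.fst G.pU G.pU) c.condition
    simpa only [Category.assoc, j_fst, pullback.lift_fst] using this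
  · have := congrArg (· ≫ pullback.snd G.pU G.pU) c.condition
    simpa only [Category.assoc, j_snd, pullback.lift_snd] using this
  · apply pullback.hom_ext
    · exact (Category.assoc _ _ _).trans ((congrArg (_ ≫ ·) (j_fst G')).trans (GrpdPullback.mk_t _ _ _ _ _))
    · exact (Category.assoc _ _ _).trans ((congrArg (_ ≫ ·) (j_snd G')).trans (GrpdPullback.mk_s _ _ _ _ _))
  · refine GrpdPullback.ext (h₁.trans (GrpdPullback.mk_arrow _ _ _ _ _).symm) ?_ ?_
    · have := congrArg (· ≫ pullback.fst G'.pU G'.pU) h₂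
      exact ((congrArg (m ≫ ·) (j_fst G')).symm.trans ((Category.assoc _ _ _).symm.trans this)).trans
        (GrpdPullback.mk_t _ _ _ _ _).symm
    · have := congrArg (· ≫ pullback.snd G'.pU G'.pU) h₂
      exact ((congrArg (m ≫ ·) (j_snd G')).symm.trans ((Category.assoc _ _ _).symm.trans this)).trans
        (GrpdPullback.mk_s _ _ _ _ _).symm

/-- At a point of `U'` with trivial residue extension there is only one arrow over a given one. -/
theorem arrow_injective_at (u' : U') [IsIso (φ.residueFieldMap u')] (r₁ r₂ : GrpdPullback.R' G φ)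
    (hs₁ : GrpdPullback.s' G φ r₁ = u') (hs₂ : GrpdPullback.s' G φ r₂ = u')
    (ht₁ : GrpdPullback.t' G φ r₁ = u') (ht₂ : GrpdPullback.t' G φ r₂ = u')
    (h : GrpdPullback.arrow G φ r₁ = GrpdPullback.arrow G φ r₂) : r₁ = r₂ := by
  have hins : IsInsepAt φ u' := by
    letI := (φ.residueFieldMap u').hom.toAlgebra
    exact (isPurelyInseparable_iff_pow_mem (G.U.residueField (φ u')) (ringExpChar (G.U.residueField (φ u')))).2 fun x =>
      ⟨0, by rw [pow_zero, pow_one]; exact (ConcreteCategory.bijective_of_isIso (φ.residueFieldMap u')).2 x⟩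
  have e : pullback.fst (GrpdPullback.q G φ) φ r₁ = pullback.fst (GrpdPullback.q G φ) φ r₂ := by
    refine point_unique (IsPullback.of_hasPullback G.t φ).flip u' hins _ _ ?_ ?_ ?_
    · rw [← Scheme.Hom.comp_apply]; exact ht₁
    · rw [← Scheme.Hom.comp_apply]; exact ht₂
    · rw [← Scheme.Hom.comp_apply, ← Scheme.Hom.comp_apply]; exact h
  exact point_unique (IsPullback.of_hasPullback (GrpdPullback.q G φ) φ).flip u' hins r₁ r₂ hs₁ hs₂ e

variable [IsAffine G.U] [IsSeparated G.s] [Flat G.s] [LocallyOfFinitePresentation G.s]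

theorem exists_quasiSplit (W : G.R.Opens) [IsAffine W.toScheme] [LocallyQuasiFinite (W.ι ≫ G.s)]
    (u : G.U) (Lp : Set G.R) (hL : IsLoopSet (W := W) u Lp) :
    ∃ (G' : Grpd.GroupoidScheme S) (φ : Grpd.GroupoidScheme.Hom G' G) (u' : ↥G'.U),
      IsAffine G'.U ∧ Etale φ.fU ∧ φ.fU u' = u ∧ IsIso (φ.fU.residueFieldMap u') ∧
      IsPullback φ.fR G'.j G.j
        (pullback.map G'.pU G'.pU G.pU G.pU φ.fU φ.fU (𝟙 S)
          ((Category.comp_id _).trans φ.fU_over.symm) ((Category.comp_id _).trans φ.fU_over.symm)) ∧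
      ∃ (P : Scheme.{u}) (ιP : P ⟶ G'.R), IsOpenImmersion ιP ∧
        (∃ eP : G'.U ⟶ P, eP ≫ ιP = G'.e) ∧ (∃ iP : P ⟶ P, iP ≫ ιP = ιP ≫ G'.i) ∧
        (∃ cP : pullback (ιP ≫ G'.s) (ιP ≫ G'.t) ⟶ P,
          cP ≫ ιP = pullback.map (ιP ≫ G'.s) (ιP ≫ G'.t) G'.s G'.t ιP ιP (𝟙 G'.U)
            (Category.comp_id _) (Category.comp_id _) ≫ G'.c) ∧
        IsFinite (ιP ≫ G'.s) ∧ IsFinite (ιP ≫ G'.t) ∧
        ∀ r' : ↥G'.R, G'.s r' = u' → G'.t r' = u' → φ.fR r' ∈ Lp → ∃ p : ↥P, ιP p = r' := by
  obtain ⟨D⟩ := exists_pieceData (W.ι ≫ G.s)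
  obtain ⟨l₀, hπ, hmem⟩ := exists_point D hL
  have hgood := isGood_point hL hπ hmem
  let c : Spec (G.U.residueField u) := IsLocalRing.closedPoint _
  let u₂ : (good D).toScheme := ⟨l₀ c, hgood ⟨c, rfl⟩⟩
  -- the finite groupoid
  let G₂ := subgrpd D
  have : IsFinite (sP D) := MorphismProperty.of_isPullback (isPullback_morphismRestrict (σ D) (good D)).flip
    (isFinite_σ D)
  have hσflat : Flat (σ D) := inferInstance
  have : Flat (sP D) := inferInstance
  have hσlfp : LocallyOfFinitePresentation (σ D) := inferInstance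
  have : LocallyOfFinitePresentation (sP D) := MorphismProperty.of_isPullback
    (isPullback_morphismRestrict (σ D) (good D)).flip hσlfp
  obtain ⟨_, ⟨A, hA, rfl⟩, huA, -⟩ := (good D).toScheme.isBasis_affineOpens.exists_subset_of_mem_open
    (Set.mem_univ u₂) isOpen_univ
  obtain ⟨V, hV, huV, -, hinv⟩ := exists_invariant_affineOpen G₂ u₂ A hA (fun z hz => by
    have := tP_fix hL hπ hmem (l₀ c) rfl z (congrArg (good D).ι hz)
    show tP D z ∈ A
    have e : tP D z = u₂ := (good D).ι.isOpenEmbedding.injective this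
    rw [e]; exact huA)
  have : IsAffine V.toScheme := hV
  let φ : V.toScheme ⟶ G.U := V.ι ≫ (good D).ι ≫ D.π
  have := D.etale
  have : Etale φ := inferInstance
  let u' : V.toScheme := ⟨u₂, huV⟩
  have hu' : φ u' = u := by
    have : (l₀ ≫ D.π) c = u := by rw [hπ, Scheme.fromSpecResidueField_apply]
    rw [← this]
    simp only [φ, Scheme.Hom.comp_apply]
    rfl
  have : IsPreimmersion (l₀ ≫ D.π) := by rw [hπ]; infer_instance
  have hres : IsIso (D.π.residueFieldMap (l₀ c)) := isIso_residueFieldMap_of_comp l₀ D.π c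
  have hφres : IsIso (φ.residueFieldMap u') := by
    have h1 : IsIso (((good D).ι ≫ D.π).residueFieldMap u₂) := by
      rw [Scheme.residueFieldMap_comp]
      exact IsIso.comp_isIso' hres inferInstance
    rw [Scheme.residueFieldMap_comp]
    exact IsIso.comp_isIso' h1 inferInstance
  let P := restrict G₂ V hinv
  let ιP : P.R ⟶ GrpdPullback.R' G φ := GrpdPullback.mk (arrowsι G₂ V ≫ ρP D) P.t P.s
    (by
      refine Eq.trans ?_ (congrArg (· ≫ (good D).ι ≫ D.π) (restrictT_ι G₂ V hinv).symm |>.trans (Category.assoc _ _ _))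
      refine Eq.trans ?_ (Category.assoc _ _ _).symm
      rw [Category.assoc (arrowsι G₂ V) (ρP D)]
      exact congrArg (arrowsι G₂ V ≫ ·) ((tr_π (isGood_ι D (sP D)) (mem_ρP D)).symm.trans
        ((congrArg (· ≫ D.π) (tP_ι D).symm).trans (Category.assoc _ _ _))))
    (by
      refine Eq.trans ?_ (congrArg (· ≫ (good D).ι ≫ D.π) (morphismRestrict_ι (sP D) V).symm |>.trans (Category.assoc _ _ _))
      refine Eq.trans ?_ (Category.assoc _ _ _).symm
      rw [Category.assoc (arrowsι G₂ V) (ρP D)]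
      exact congrArg (arrowsι G₂ V ≫ ·) ((mem_ρP D).s_eq.trans (Category.assoc _ _ _)))
  -- `ιP` is an open immersion
  let j : GrpdPullback.R' G φ ⟶ pullback G.s φ :=
    pullback.map (GrpdPullback.q G φ) φ G.s φ (pullback.fst G.t φ) (𝟙 _) (𝟙 _) (Category.comp_id _) (by simp)
  have : Etale j := MorphismProperty.pullbackMap (P := @Etale) (i₁ := pullback.fst G.t φ) (i₂ := 𝟙 _)
    inferInstance inferInstance rfl (by simp)
  let w' : pullback G.s φ ⟶ pullback G.s D.π :=
    pullback.map _ _ _ _ (𝟙 _) (V.ι ≫ (good D).ι) (𝟙 _) (by simp) (by simp [φ])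
  have : IsOpenImmersion w' := MorphismProperty.pullbackMap (P := @IsOpenImmersion) (i₁ := 𝟙 _)
    (i₂ := V.ι ≫ (good D).ι) inferInstance inferInstance (by simp) (by simp [φ])
  let w : pullback (W.ι ≫ G.s) D.π ⟶ pullback G.s D.π :=
    pullback.map _ _ _ _ W.ι (𝟙 _) (𝟙 _) (Category.comp_id _) (by simp)
  have : IsOpenImmersion w := MorphismProperty.pullbackMap (P := @IsOpenImmersion) (i₁ := W.ι)
    (i₂ := 𝟙 D.H) inferInstance inferInstance rfl (by simp)
  have hk : (ιP ≫ j) ≫ w' = (arrowsι G₂ V ≫ (σ D ⁻¹ᵁ good D).ι ≫ D.Z.ι) ≫ w := by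
    apply pullback.hom_ext
    · have : ιP ≫ GrpdPullback.arrow G φ = arrowsι G₂ V ≫ ρP D := GrpdPullback.mk_arrow _ _ _ _ _
      simp only [GrpdPullback.arrow] at this
      simp only [j, w', w, Category.assoc, pullback.lift_fst, pullback.lift_fst_assoc, Category.comp_id]
      exact this
    · have : ιP ≫ GrpdPullback.s' G φ = P.s := GrpdPullback.mk_s _ _ _ _ _
      simp only [GrpdPullback.s'] at this
      simp only [j, w', w, Category.assoc, pullback.lift_snd, pullback.lift_snd_assoc, Category.comp_id]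
      rw [reassoc_of% this, show P.s ≫ V.ι ≫ (good D).ι = (arrowsι G₂ V ≫ sP D) ≫ (good D).ι from by
        rw [← Category.assoc]; exact congrArg (· ≫ _) (morphismRestrict_ι _ _)]
      rw [Category.assoc, sP_ι]
  have : IsOpenImmersion ((ιP ≫ j) ≫ w') := by rw [hk]; infer_instance
  have : IsOpenImmersion (ιP ≫ j) := IsOpenImmersion.of_comp _ w'
  have : Etale ιP := Etale.of_comp ιP j
  have : Mono ιP := mono_of_mono ιP j
  have hopen : IsOpenImmersion ιP := .of_flat_of_mono ιP
  have hts : ιP ≫ (GrpdPullback.grpd G φ).t = P.t := GrpdPullback.mk_t _ _ _ _ _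
  have hss : ιP ≫ (GrpdPullback.grpd G φ).s = P.s := GrpdPullback.mk_s _ _ _ _ _
  have harr : ιP ≫ GrpdPullback.arrow G φ = arrowsι G₂ V ≫ ρP D := GrpdPullback.mk_arrow _ _ _ _ _
  have hfins : IsFinite P.s := MorphismProperty.of_isPullback (isPullback_morphismRestrict (sP D) V).flip
    ‹IsFinite (sP D)›
  refine ⟨GrpdPullback.grpd G φ, pullbackHom G φ, u', ‹IsAffine V.toScheme›, ‹Etale φ›, hu', hφres,
    isPullback_j G φ, P.R, ιP, hopen, ⟨P.e, ?_⟩, ⟨P.i, ?_⟩, ⟨?_, ?_⟩, ?_, ?_, ?_⟩
  · refine GrpdPullback.ext ?_ ?_ ?_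
    · refine Eq.trans ?_ (GrpdPullback.mk_arrow (G := G) (u := φ) (φ ≫ G.e) (𝟙 _) (𝟙 _)
        (by simp [G.e_t]) (by simp [G.e_s])).symm
      rw [Category.assoc, harr, ← Category.assoc, IsOpenImmersion.lift_fac, Category.assoc]
      simp only [G₂, eP, mkArrow_ρ, φ, Category.assoc]
    · rw [Category.assoc]
      exact (congrArg (P.e ≫ ·) hts).trans (P.e_t.trans (GrpdPullback.grpd G φ).e_t.symm)
    · rw [Category.assoc]
      exact (congrArg (P.e ≫ ·) hss).trans (P.e_s.trans (GrpdPullback.grpd G φ).e_s.symm)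
  · refine GrpdPullback.ext ?_ ?_ ?_
    · refine Eq.trans ?_ ((Category.assoc _ _ _).trans
        (congrArg (ιP ≫ ·) (GrpdPullback.mk_arrow (G := G) (u := φ) (GrpdPullback.arrow G φ ≫ G.i)
          (GrpdPullback.s' G φ) (GrpdPullback.t' G φ) (by rw [Category.assoc, G.i_t, GrpdPullback.arrow_s])
          (by rw [Category.assoc, G.i_s, GrpdPullback.arrow_t])))).symm
      rw [Category.assoc, harr, reassoc_of% harr,
        ← Category.assoc, IsOpenImmersion.lift_fac, Category.assoc]
      simp only [G₂, iP, mkArrow_ρ, Category.assoc]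
    · rw [Category.assoc, Category.assoc]
      exact (congrArg (P.i ≫ ·) hts).trans (P.i_t.trans (hss.symm.trans
        (congrArg (ιP ≫ ·) (GrpdPullback.grpd G φ).i_t.symm)))
    · rw [Category.assoc, Category.assoc]
      exact (congrArg (P.i ≫ ·) hss).trans (P.i_s.trans (hts.symm.trans
        (congrArg (ιP ≫ ·) (GrpdPullback.grpd G φ).i_s.symm)))
  · exact (pullback.congrHom hss hts).hom ≫ P.c
  · let G' := GrpdPullback.grpd G φ
    let a := pullback.fst (ιP ≫ G'.s) (ιP ≫ G'.t)
    let b := pullback.snd (ιP ≫ G'.s) (ιP ≫ G'.t)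
    have hab : a ≫ P.s = b ≫ P.t := by rw [← hss, ← hts]; exact pullback.condition
    have e₁ : (pullback.congrHom hss hts).hom = pullback.lift a b hab := by
      apply pullback.hom_ext
      · exact (pullback.lift_fst _ _ _).trans ((Category.comp_id _).trans (pullback.lift_fst _ _ _).symm)
      · exact (pullback.lift_snd _ _ _).trans ((Category.comp_id _).trans (pullback.lift_snd _ _ _).symm)
    have e₂ : pullback.map (ιP ≫ G'.s) (ιP ≫ G'.t) G'.s G'.t ιP ιP (𝟙 G'.U) (Category.comp_id _)
        (Category.comp_id _) = pullback.lift (a ≫ ιP) (b ≫ ιP) (by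
          rw [Category.assoc, Category.assoc]; exact pullback.condition) := rfl
    rw [e₁, e₂]
    refine GrpdPullback.ext ?_ ?_ ?_
    · refine Eq.trans ?_ (GrpdPullback.lift_c'_arrow _ _ _).symm
      rw [Category.assoc, harr, ← Category.assoc]
      refine (congrArg (· ≫ ρP D) (lift_restrictC G₂ V hinv a b hab)).trans ?_
      refine (lift_cP_ρ D _ _ _).trans (comp_congr G _ ?_ ?_)
      · simp only [Category.assoc, harr]
      · simp only [Category.assoc, harr]
    · rw [Category.assoc]
      refine (congrArg (_ ≫ ·) hts).trans ((P.comp_t a b hab).trans ?_)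
      exact ((congrArg (a ≫ ·) hts.symm).trans (Category.assoc _ _ _).symm).trans
        (GrpdPullback.lift_c'_t _ _ _).symm
    · rw [Category.assoc]
      refine (congrArg (_ ≫ ·) hss).trans ((P.comp_s a b hab).trans ?_)
      exact ((congrArg (b ≫ ·) hss.symm).trans (Category.assoc _ _ _).symm).trans
        (GrpdPullback.lift_c'_s _ _ _).symm
  · rw [hss]; exact hfins
  · rw [hts, ← P.i_s]
    have := isIso_i P
    infer_instance
  · intro r' hs ht hr
    let r := GrpdPullback.arrow G φ r'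
    let ξ := G.R.fromSpecResidueField r
    obtain ⟨n, hn⟩ := exists_factor u (ξ ≫ G.s) (by
      rintro _ ⟨y, rfl⟩
      rw [Scheme.Hom.comp_apply]
      exact (congrArg G.s (G.R.fromSpecResidueField_apply r y)).trans (hL.src _ hr))
    obtain ⟨β, hβσ, hβρ⟩ := (hmem n ξ).2 ⟨hn.symm, by
      rintro _ ⟨y, rfl⟩
      exact (congrArg (· ∈ Lp) (G.R.fromSpecResidueField_apply r y)).mpr hr⟩
    let y : Spec (G.R.residueField r) := IsLocalRing.closedPoint _
    have hz : σ D (β y) = l₀ c := by
      rw [← Scheme.Hom.comp_apply, hβσ, Scheme.Hom.comp_apply]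
      have : Subsingleton (Spec (G.U.residueField u)) :=
        inferInstanceAs (Subsingleton (PrimeSpectrum (G.U.residueField u)))
      exact congrArg l₀ (Subsingleton.elim _ _)
    let z : arrows D := ⟨β y, show σ D (β y) ∈ good D from hz ▸ hgood ⟨c, rfl⟩⟩
    have hzs : sP D z = u₂ := (good D).ι.isOpenEmbedding.injective (by
      rw [← Scheme.Hom.comp_apply, sP_ι, Scheme.Hom.comp_apply]; exact hz)
    have hzt : tP D z = u₂ := (good D).ι.isOpenEmbedding.injective
      (tP_fix hL hπ hmem (l₀ c) rfl z (congrArg (good D).ι hzs))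
    let p : P.R := ⟨z, show sP D z ∈ V from hzs ▸ huV⟩
    refine ⟨p, arrow_injective_at G φ u' _ r' ?_ hs ?_ ht ?_⟩
    · rw [← Scheme.Hom.comp_apply]
      refine (congrArg (fun f : P.R ⟶ V.toScheme => f p) hss).trans (V.ι.isOpenEmbedding.injective ?_)
      rw [← Scheme.Hom.comp_apply]
      exact (congrArg (fun f : P.R ⟶ (good D).toScheme => f p) (morphismRestrict_ι (sP D) V)).trans hzs
    · rw [← Scheme.Hom.comp_apply]
      refine (congrArg (fun f : P.R ⟶ V.toScheme => f p) hts).trans (V.ι.isOpenEmbedding.injective ?_)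
      rw [← Scheme.Hom.comp_apply]
      exact (congrArg (fun f : P.R ⟶ (good D).toScheme => f p) (restrictT_ι G₂ V hinv)).trans hzt
    · rw [← Scheme.Hom.comp_apply, harr]
      have := congrArg (fun f : Spec (G.R.residueField r) ⟶ G.R => f y) hβρ
      simp only [Scheme.Hom.comp_apply, ξ, Scheme.fromSpecResidueField_apply] at this ⊢
      exact this

end Groth.QSplit
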