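import Groth.Agent.GitQuot.QSplit.Classify
import Groth.Agent.GitQuot.GrpdShear

/-!
# Membership of arrows in pieces of the source map of a groupoid
-/

set_option autoImplicit false
set_option backward.isDefEq.respectTransparency.types false

universe u

open CategoryTheory CategoryTheory.Limits AlgebraicGeometry

noncomputable section

namespace Groth.QSplit

open Groth.GrpdBasic Groth.FppfBoot

variable {S : Scheme.{u}} {G : Grpd.GroupoidScheme S} {W : G.R.Opens} (D : PieceData (W.ι ≫ G.s))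

/-- The universal piece. -/
abbrev uPiece : Scheme.{u} := D.Z.toScheme

/-- The point classifying the piece an element belongs to. -/
abbrev σ : uPiece D ⟶ D.H := D.Z.ι ≫ pullback.snd (W.ι ≫ G.s) D.π

/-- The arrow underlying an element of a piece. -/
abbrev ρ : uPiece D ⟶ G.R := D.Z.ι ≫ pullback.fst (W.ι ≫ G.s) D.π ≫ W.ι

instance isFinite_σ : IsFinite (σ D) := D.piece.finite

theorem ρ_s : ρ D ≫ G.s = σ D ≫ D.π := by
  simp only [Category.assoc, pullback.condition]

theorem range_ρ {T : Scheme.{u}} (β : T ⟶ uPiece D) : Set.range (β ≫ ρ D) ⊆ W := by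
  rintro _ ⟨x, rfl⟩
  simp only [Scheme.Hom.comp_apply]
  exact Subtype.prop _

theorem uPiece_ext {T : Scheme.{u}} {β β' : T ⟶ uPiece D} (h₁ : β ≫ σ D = β' ≫ σ D)
    (h₂ : β ≫ ρ D = β' ≫ ρ D) : β = β' := by
  rw [← cancel_mono D.Z.ι]
  refine pullback.hom_ext ?_ (by simpa only [Category.assoc] using h₁)
  rw [← cancel_mono W.ι]
  simpa only [Category.assoc] using h₂

/-- The arrow `δ` lies in the piece classified by `l`. -/
def Mem {T : Scheme.{u}} (l : T ⟶ D.H) (δ : T ⟶ G.R) : Prop :=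
  ∃ β : T ⟶ uPiece D, β ≫ σ D = l ∧ β ≫ ρ D = δ

variable {D} {T : Scheme.{u}} {l : T ⟶ D.H} {δ : T ⟶ G.R}

theorem Mem.precomp (h : Mem D l δ) {T' : Scheme.{u}} (m : T' ⟶ T) : Mem D (m ≫ l) (m ≫ δ) := by
  obtain ⟨β, rfl, rfl⟩ := h
  exact ⟨m ≫ β, Category.assoc _ _ _, Category.assoc _ _ _⟩

theorem Mem.s_eq (h : Mem D l δ) : δ ≫ G.s = l ≫ D.π := by
  obtain ⟨β, rfl, rfl⟩ := h
  simp only [Category.assoc, pullback.condition]

theorem Mem.range_subset (h : Mem D l δ) : Set.range δ ⊆ W := by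
  obtain ⟨β, rfl, rfl⟩ := h
  exact range_ρ D β

/-- Membership is checked on points. -/
theorem mem_iff (hs : δ ≫ G.s = l ≫ D.π) (x : T ⟶ pullback (W.ι ≫ G.s) D.π)
    (hx₁ : x ≫ pullback.fst _ _ ≫ W.ι = δ) (hx₂ : x ≫ pullback.snd _ _ = l) :
    Mem D l δ ↔ Set.range x ⊆ D.Z := by
  constructor
  · rintro ⟨β, hβ₁, hβ₂⟩
    have : β ≫ D.Z.ι = x := by
      refine pullback.hom_ext ?_ (by rw [Category.assoc, hx₂]; exact hβ₁)
      rw [← cancel_mono W.ι, Category.assoc, Category.assoc, Category.assoc, hx₁]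
      exact hβ₂
    rw [← this]
    rintro _ ⟨y, rfl⟩
    exact (β y).2
  · intro h
    exact ⟨IsOpenImmersion.lift D.Z.ι x (by simpa using h),
      by rw [← Category.assoc, IsOpenImmersion.lift_fac, hx₂],
      by rw [← Category.assoc, IsOpenImmersion.lift_fac, hx₁]⟩

/-- Two maps to the scheme of pieces agree if the same field valued arrows belong to their pieces. -/
theorem hom_ext {l l' : T ⟶ D.H} (hπ : l ≫ D.π = l' ≫ D.π)
    (h : ∀ (K : Type u) [Field K] (m : Spec (CommRingCat.of K) ⟶ T) (δ : Spec (CommRingCat.of K) ⟶ G.R),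
      Mem D (m ≫ l) δ ↔ Mem D (m ≫ l') δ) : l = l' := by
  refine D.ext' (l ≫ D.π) l l' rfl hπ.symm ?_
  refine TopologicalSpace.Opens.ext (Set.ext fun x => ?_)
  let P := pullback (W.ι ≫ G.s) (l ≫ D.π)
  let ξ := P.fromSpecResidueField x
  let m := ξ ≫ pullback.snd (W.ι ≫ G.s) (l ≫ D.π)
  let δ := ξ ≫ pullback.fst (W.ι ≫ G.s) (l ≫ D.π) ≫ W.ι
  have key : ∀ (k : T ⟶ D.H) (hk : k ≫ D.π = l ≫ D.π),
      Mem D (m ≫ k) δ ↔ pb (W.ι ≫ G.s) k hk x ∈ D.Z := by
    intro k hk
    rw [mem_iff (D := D) (by simp only [δ, m, Category.assoc, hk, pullback.condition]) (ξ ≫ pb _ k hk)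
      (by simp only [δ, Category.assoc, pb_fst_assoc]) (by simp only [m, Category.assoc, pb_snd])]
    constructor
    · intro hr
      have := hr ⟨IsLocalRing.closedPoint (P.residueField x), rfl⟩
      rwa [Scheme.Hom.comp_apply, Scheme.fromSpecResidueField_apply] at this
    · rintro hx _ ⟨y, rfl⟩
      rwa [Scheme.Hom.comp_apply, Scheme.fromSpecResidueField_apply]
  exact (key l rfl).symm.trans ((h _ m δ).trans (key l' hπ.symm))

end Groth.QSplit
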