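import Groth.Agent.GitQuot.QSplit.Subgroupoid

/-!
# The piece at a point cut out by finitely many loops
-/

set_option autoImplicit false
set_option backward.isDefEq.respectTransparency.types false

universe u

open CategoryTheory CategoryTheory.Limits AlgebraicGeometry

noncomputable section

namespace Groth.QSplit

open Groth.GrpdBasic Groth.FppfBoot

/-- A field valued point with given image factors through the residue field. -/
theorem exists_factor {X : Scheme.{u}} (x : X) {K : Type u} [Field K] (p : Spec (CommRingCat.of K) ⟶ X)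
    (h : Set.range p ⊆ {x}) : ∃ n, n ≫ X.fromSpecResidueField x = p := by
  have hx : p (IsLocalRing.closedPoint K) = x := h ⟨_, rfl⟩
  subst hx
  exact ⟨_, X.descResidueField_stalkClosedPointTo_fromSpecResidueField K p⟩

/-- Points of `X` with trivial residue extension are determined by their image. -/
theorem eq_of_isIso_residueFieldMap {X Y : Scheme.{u}} (f : X ⟶ Y) (x : X) [IsIso (f.residueFieldMap x)]
    {K : Type u} [Field K] (p q : Spec (CommRingCat.of K) ⟶ X) (hp : Set.range p ⊆ {x}) (hq : Set.range q ⊆ {x})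
    (h : p ≫ f = q ≫ f) : p = q := by
  obtain ⟨n, rfl⟩ := exists_factor x p hp
  obtain ⟨n', rfl⟩ := exists_factor x q hq
  have hm : Mono (Spec.map (f.residueFieldMap x) ≫ Y.fromSpecResidueField (f x)) := inferInstance
  rw [f.SpecMap_residueFieldMap_fromSpecResidueField] at hm
  exact congrArg (· ≫ X.fromSpecResidueField x)
    ((cancel_mono (X.fromSpecResidueField x ≫ f)).1 (by simpa only [Category.assoc] using h))

/-- A factorization of a preimmersion has trivial residue extension at the image point. -/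
theorem isIso_residueFieldMap_of_comp {Z X Y : Scheme.{u}} (g : Z ⟶ X) (f : X ⟶ Y) [IsPreimmersion (g ≫ f)]
    (z : Z) : IsIso (f.residueFieldMap (g z)) := by
  have hs : Function.Surjective ((g ≫ f).residueFieldMap z).hom := by
    intro k
    obtain ⟨b, rfl⟩ := Z.residue_surjective z k
    obtain ⟨a, rfl⟩ := (g ≫ f).stalkMap_surjective z b
    exact ⟨Y.residue _ a, congr(($(Scheme.residue_residueFieldMap (g ≫ f) z)).hom a)⟩
  rw [Scheme.residueFieldMap_comp] at hs
  refine (ConcreteCategory.isIso_iff_bijective _).2 ⟨RingHom.injective _, fun k => ?_⟩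
  obtain ⟨a, ha⟩ := hs ((g.residueFieldMap z).hom k)
  exact ⟨a, RingHom.injective (g.residueFieldMap z).hom ha⟩

variable {S : Scheme.{u}} {G : Grpd.GroupoidScheme S} {W : G.R.Opens} (D : PieceData (W.ι ≫ G.s))
  (u : G.U) (Lp : Set G.R)

/-- The finite set of loops is closed under composition and inversion. -/
structure IsLoopSet : Prop where
  fin : Lp.Finite
  sub : Lp ⊆ W
  src : ∀ r ∈ Lp, G.s r = u
  tgt : ∀ r ∈ Lp, G.t r = u
  one : G.e u ∈ Lp
  inv : ∀ r ∈ Lp, G.i r ∈ Lp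
  mul : ∀ (K : Type u) [Field K] (γ β : Spec (CommRingCat.of K) ⟶ G.R) (h : γ ≫ G.s = β ≫ G.t),
    Set.range γ ⊆ Lp → Set.range β ⊆ Lp → Set.range (comp G γ β h) ⊆ Lp

variable {u Lp}

theorem IsLoopSet.range_inv (hL : IsLoopSet (W := W) u Lp) {T : Scheme.{u}} {β : T ⟶ G.R}
    (h : Set.range β ⊆ Lp) : Set.range (β ≫ G.i) ⊆ Lp := by
  rintro _ ⟨y, rfl⟩
  rw [Scheme.Hom.comp_apply]
  exact hL.inv _ (h ⟨y, rfl⟩)

theorem exists_point [IsAffine W.toScheme] [IsAffine G.U] [LocallyQuasiFinite (W.ι ≫ G.s)] (hL : IsLoopSet (W := W) u Lp) :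
    ∃ l₀ : Spec (G.U.residueField u) ⟶ D.H, l₀ ≫ D.π = G.U.fromSpecResidueField u ∧
      ∀ {T : Scheme.{u}} (m : T ⟶ Spec (G.U.residueField u)) (δ : T ⟶ G.R),
        Mem D (m ≫ l₀) δ ↔ δ ≫ G.s = m ≫ G.U.fromSpecResidueField u ∧ Set.range δ ⊆ Lp := by
  let a := G.U.fromSpecResidueField u
  let P := pullback (W.ι ≫ G.s) a
  have : IsAffineHom (W.ι ≫ G.s) := inferInstance
  have hfin : IsFinite (pullback.snd (W.ι ≫ G.s) a) := IsFinite.of_locallyQuasiFinite _
  have hsub : Subsingleton (Spec (G.U.residueField u)) :=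
    inferInstanceAs (Subsingleton (PrimeSpectrum (G.U.residueField u)))
  have hdisc : DiscreteTopology P := by
    have := (pullback.snd (W.ι ≫ G.s) a).isDiscrete_preimage_singleton (IsLocalRing.closedPoint _)
    have e : (pullback.snd (W.ι ≫ G.s) a) ⁻¹' {IsLocalRing.closedPoint (G.U.residueField u)} = Set.univ :=
      Set.eq_univ_of_forall fun x => Set.mem_preimage.2 (Set.mem_singleton_iff.2 (Subsingleton.elim _ _))
    exact isDiscrete_univ_iff.1 (e ▸ this)
  let Z' : P.Opens := ⟨(pullback.fst (W.ι ≫ G.s) a ≫ W.ι) ⁻¹' Lp, isOpen_discrete _⟩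
  have hZ' : IsPiece (pullback.snd (W.ι ≫ G.s) a) Z' := by
    have : IsClosedImmersion Z'.ι := IsClosedImmersion.of_isPreimmersion _ (by
      rw [Scheme.Opens.range_ι]; exact isClosed_discrete _)
    refine ⟨inferInstance, ⟨fun x => ?_⟩⟩
    obtain ⟨p, hp₁, -⟩ := Scheme.Pullback.exists_preimage_pullback (f := W.ι ≫ G.s) (g := a)
      (⟨G.e u, hL.sub hL.one⟩ : W.toScheme) (IsLocalRing.closedPoint _) (by
        rw [Scheme.fromSpecResidueField_apply]; exact hL.src _ hL.one)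
    refine ⟨⟨p, ?_⟩, Subsingleton.elim _ _⟩
    change (pullback.fst (W.ι ≫ G.s) a ≫ W.ι) p ∈ Lp
    rw [Scheme.Hom.comp_apply, hp₁]
    exact hL.one
  obtain ⟨l₀, hl₀, hZ⟩ := D.lift' a Z' hZ'
  refine ⟨l₀, hl₀, fun {T} m δ => ⟨fun h => ?_, fun ⟨hs, hr⟩ => ?_⟩⟩
  · have hs : δ ≫ G.s = m ≫ a := by rw [h.s_eq, Category.assoc, hl₀]
    refine ⟨hs, ?_⟩
    let x : T ⟶ P := pullback.lift (IsOpenImmersion.lift W.ι δ (by rw [Scheme.Opens.range_ι]; exact h.range_subset)) m
      (by rw [← Category.assoc, IsOpenImmersion.lift_fac, hs])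
    have hx := (mem_iff (D := D) h.s_eq (x ≫ pb (W.ι ≫ G.s) l₀ hl₀)
      (by rw [Category.assoc, pb_fst_assoc, pullback.lift_fst_assoc, IsOpenImmersion.lift_fac])
      (by rw [Category.assoc, pb_snd, pullback.lift_snd_assoc])).1 h
    rintro _ ⟨y, rfl⟩
    have : x y ∈ pb (W.ι ≫ G.s) l₀ hl₀ ⁻¹ᵁ D.Z := hx ⟨y, rfl⟩
    rw [hZ] at this
    have e : (x ≫ pullback.fst (W.ι ≫ G.s) a ≫ W.ι) = δ := by
      rw [pullback.lift_fst_assoc, IsOpenImmersion.lift_fac]
    rw [← e, Scheme.Hom.comp_apply]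
    exact this
  · let x : T ⟶ P := pullback.lift (IsOpenImmersion.lift W.ι δ (by rw [Scheme.Opens.range_ι]; exact hr.trans hL.sub)) m
      (by rw [← Category.assoc, IsOpenImmersion.lift_fac, hs])
    rw [mem_iff (D := D) (by rw [hs, Category.assoc, hl₀]) (x ≫ pb (W.ι ≫ G.s) l₀ hl₀)
      (by rw [Category.assoc, pb_fst_assoc, pullback.lift_fst_assoc, IsOpenImmersion.lift_fac])
      (by rw [Category.assoc, pb_snd, pullback.lift_snd_assoc])]
    rintro _ ⟨y, rfl⟩
    show x y ∈ pb (W.ι ≫ G.s) l₀ hl₀ ⁻¹ᵁ D.Z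
    rw [hZ]
    show (pullback.fst (W.ι ≫ G.s) a ≫ W.ι) (x y) ∈ Lp
    rw [← Scheme.Hom.comp_apply, pullback.lift_fst_assoc, IsOpenImmersion.lift_fac]
    exact hr ⟨y, rfl⟩

variable {D}

theorem isGood_point (hL : IsLoopSet (W := W) u Lp) {l₀ : Spec (G.U.residueField u) ⟶ D.H}
    (hπ : l₀ ≫ D.π = G.U.fromSpecResidueField u)
    (hmem : ∀ {T : Scheme.{u}} (m : T ⟶ Spec (G.U.residueField u)) (δ : T ⟶ G.R),
      Mem D (m ≫ l₀) δ ↔ δ ≫ G.s = m ≫ G.U.fromSpecResidueField u ∧ Set.range δ ⊆ Lp) :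
    IsGood D l₀ := by
  refine isGood_of ?_ fun K _ m β γ hβ hγ => ?_
  · refine ((hmem (𝟙 _) _).2 ⟨?_, ?_⟩).congr (Category.id_comp _) rfl
    · rw [Category.id_comp, Category.assoc, Category.assoc, G.e_s, Category.comp_id, hπ]
    · rw [← Category.assoc, hπ]
      rintro _ ⟨y, rfl⟩
      rw [Scheme.Hom.comp_apply, Scheme.fromSpecResidueField_apply]
      exact hL.one
  · exact (hL.mul K _ _ _ ((hmem m γ).1 hγ).2 (hL.range_inv ((hmem m β).1 hβ).2)).trans hL.sub

/-- The distinguished point is fixed by the groupoid of good pieces. -/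
theorem tP_fix (hL : IsLoopSet (W := W) u Lp) {l₀ : Spec (G.U.residueField u) ⟶ D.H}
    (hπ : l₀ ≫ D.π = G.U.fromSpecResidueField u)
    (hmem : ∀ {T : Scheme.{u}} (m : T ⟶ Spec (G.U.residueField u)) (δ : T ⟶ G.R),
      Mem D (m ≫ l₀) δ ↔ δ ≫ G.s = m ≫ G.U.fromSpecResidueField u ∧ Set.range δ ⊆ Lp)
    (h₀ : D.H) (hh₀ : l₀ (IsLocalRing.closedPoint _) = h₀) (z : arrows D)
    (hz : (good D).ι (sP D z) = h₀) : (good D).ι (tP D z) = h₀ := by
  have hsub : Subsingleton (Spec (G.U.residueField u)) :=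
    inferInstanceAs (Subsingleton (PrimeSpectrum (G.U.residueField u)))
  have : IsPreimmersion (l₀ ≫ D.π) := by rw [hπ]; infer_instance
  have : IsIso (D.π.residueFieldMap h₀) := hh₀ ▸ isIso_residueFieldMap_of_comp l₀ D.π _
  have hπh : D.π h₀ = u := by
    rw [← hh₀, ← Scheme.Hom.comp_apply, hπ, Scheme.fromSpecResidueField_apply]
  let ξ := (arrows D).fromSpecResidueField z
  let l := ξ ≫ sP D ≫ (good D).ι
  have hl : Set.range l ⊆ {h₀} := by
    rintro _ ⟨y, rfl⟩
    simp only [l, ξ, Scheme.Hom.comp_apply, Scheme.fromSpecResidueField_apply, hz, Set.mem_singleton_iff]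
  obtain ⟨n, hn⟩ := exists_factor u (l ≫ D.π) (by
    rintro _ ⟨y, rfl⟩
    exact ((Scheme.Hom.comp_apply l D.π y).trans (congrArg D.π (hl ⟨y, rfl⟩))).trans hπh)
  have hln : l = n ≫ l₀ := eq_of_isIso_residueFieldMap D.π h₀ l (n ≫ l₀) hl (by
    rintro _ ⟨y, rfl⟩
    rw [Scheme.Hom.comp_apply, Subsingleton.elim (n y) (IsLocalRing.closedPoint _), hh₀]; rfl)
    (by rw [← hn, Category.assoc n, hπ])
  let α := ξ ≫ ρP D
  have hα : Mem D (n ≫ l₀) α := ((mem_ρP D).precomp ξ).congr hln rfl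
  obtain ⟨hαs, hαLp⟩ := (hmem n α).1 hα
  obtain ⟨n', hn'⟩ := exists_factor u (α ≫ G.t) (by
    rintro _ ⟨y, rfl⟩
    rw [Scheme.Hom.comp_apply, hL.tgt _ (hαLp ⟨y, rfl⟩)]; rfl)
  have hgl : IsGood D (n ≫ l₀) := (isGood_point hL hπ hmem).precomp n
  have key : tr hgl hα = n' ≫ l₀ := by
    refine hom_ext (by rw [tr_π, ← hn', Category.assoc, hπ]) fun K _ m δ => ?_
    rw [mem_tr, ← Category.assoc m n, ← Category.assoc m n', hmem]
    have hmα : Set.range (m ≫ α) ⊆ Lp := by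
      rintro _ ⟨y, rfl⟩
      rw [Scheme.Hom.comp_apply]
      exact hαLp ⟨m y, rfl⟩
    have he : (m ≫ α) ≫ G.t = (m ≫ n') ≫ G.U.fromSpecResidueField u := by
      rw [Category.assoc, ← hn', Category.assoc]
    constructor
    · rintro ⟨h, hm⟩
      refine ⟨h.trans he, ?_⟩
      rw [hmem] at hm
      have := hL.mul K _ _ (by rw [GrpdBasic.comp_s, Category.assoc _ G.i, G.i_t]) hm.2 (hL.range_inv hmα)
      rwa [comp_cancel_inv] at this
    · rintro ⟨h, hδ⟩
      refine ⟨h.trans he.symm, ?_⟩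
      rw [hmem]
      exact ⟨by rw [GrpdBasic.comp_s, Category.assoc, hαs, Category.assoc], hL.mul K _ _ _ hδ hmα⟩
  have htr : ξ ≫ tP D ≫ (good D).ι = n' ≫ l₀ :=
    (precomp_tP ξ hgl hα hln rfl).trans key
  have := congrArg (fun f : Spec ((arrows D).residueField z) ⟶ D.H => f (IsLocalRing.closedPoint _)) htr
  simp only [ξ, Scheme.Hom.comp_apply, Scheme.fromSpecResidueField_apply] at this
  rw [this, ← hh₀]
  exact congrArg l₀ (Subsingleton.elim _ _)

end Groth.QSplit
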