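import Groth.Agent.GitQuot.QSplit.Loops

/-!
# The loops coming from the stabilizer at a point
-/

set_option autoImplicit false
set_option backward.isDefEq.respectTransparency.types false

universe u

open CategoryTheory CategoryTheory.Limits AlgebraicGeometry

noncomputable section

namespace Groth.QSplit

open Groth.GrpdBasic

variable {S : Scheme.{u}} (G : Grpd.GroupoidScheme S) (u : G.U)

/-- The points of the stabilizer over `u`, seen in the arrows. -/
def stabLoops : Set G.R := {r | G.j r = G.diag u}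

theorem stabLoops_eq :
    stabLoops G u = (pullback.fst G.j G.diag) '' {g | G.stabilizerToU g = u} := by
  ext r
  constructor
  · intro hr
    obtain ⟨g, hg₁, hg₂⟩ := Scheme.Pullback.exists_preimage_pullback (f := G.j) (g := G.diag) r u hr
    exact ⟨g, hg₂, hg₁⟩
  · rintro ⟨g, hg, rfl⟩
    show G.j (pullback.fst G.j G.diag g) = G.diag u
    have h : (pullback.fst G.j G.diag ≫ G.j) g = (pullback.snd G.j G.diag ≫ G.diag) g :=
      congrArg (fun f : pullback G.j G.diag ⟶ pullback G.pU G.pU => f g) pullback.condition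
    rw [Scheme.Hom.comp_apply, Scheme.Hom.comp_apply] at h
    exact h.trans (congrArg G.diag hg)

theorem src_of_mem {r : G.R} (hr : r ∈ stabLoops G u) : G.s r = u := by
  have hr' : G.j r = G.diag u := hr
  rw [← j_snd G, Scheme.Hom.comp_apply, hr', ← Scheme.Hom.comp_apply, diag_snd]; rfl

theorem tgt_of_mem {r : G.R} (hr : r ∈ stabLoops G u) : G.t r = u := by
  have hr' : G.j r = G.diag u := hr
  rw [← j_fst G, Scheme.Hom.comp_apply, hr', ← Scheme.Hom.comp_apply, diag_fst]; rfl

/-- A field valued arrow lies over the stabilizer at `u` iff it is a loop at a point over `u`. -/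
theorem range_subset_stabLoops_iff {K : Type u} [Field K] (δ : Spec (CommRingCat.of K) ⟶ G.R) :
    Set.range δ ⊆ stabLoops G u ↔ δ ≫ G.s = δ ≫ G.t ∧ Set.range (δ ≫ G.s) ⊆ {u} := by
  constructor
  · intro h
    have hj : Set.range (δ ≫ G.j) ⊆ {G.diag u} := by
      rintro _ ⟨y, rfl⟩
      rw [Scheme.Hom.comp_apply]
      exact h ⟨y, rfl⟩
    have hsu : Set.range (δ ≫ G.s) ⊆ {u} := by
      rintro _ ⟨y, rfl⟩
      rw [Scheme.Hom.comp_apply]
      exact src_of_mem G u (h ⟨y, rfl⟩)
    refine ⟨?_, hsu⟩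
    have : IsPreimmersion (G.diag ≫ pullback.fst G.pU G.pU) := by rw [diag_fst]; infer_instance
    have := isIso_residueFieldMap_of_comp G.diag (pullback.fst G.pU G.pU) u
    have e : δ ≫ G.j = (δ ≫ G.t) ≫ G.diag := by
      refine eq_of_isIso_residueFieldMap (pullback.fst G.pU G.pU) (G.diag u) _ _ hj ?_
        (by simp only [Category.assoc, j_fst, diag_fst, Category.comp_id])
      rintro _ ⟨y, rfl⟩
      rw [Scheme.Hom.comp_apply, Scheme.Hom.comp_apply, tgt_of_mem G u (h ⟨y, rfl⟩)]
      rfl
    have e' := congrArg (· ≫ pullback.snd G.pU G.pU) e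
    simpa only [Category.assoc, j_snd, diag_snd, Category.comp_id] using e'
  · rintro ⟨hst, hu⟩ _ ⟨y, rfl⟩
    show G.j (δ y) = G.diag u
    have e : δ ≫ G.j = (δ ≫ G.s) ≫ G.diag := by
      apply pullback.hom_ext
      · simp only [Category.assoc, j_fst, diag_fst, Category.comp_id, hst]
      · simp only [Category.assoc, j_snd, diag_snd, Category.comp_id]
    rw [← Scheme.Hom.comp_apply, e, Scheme.Hom.comp_apply, hu ⟨y, rfl⟩]

variable {G u} {W : G.R.Opens}

theorem isLoopSet_stabLoops (hfin : (stabLoops G u).Finite) (h : stabLoops G u ⊆ W) :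
    IsLoopSet (W := W) u (stabLoops G u) where
  fin := hfin
  sub := h
  src _ hr := src_of_mem G u hr
  tgt _ hr := tgt_of_mem G u hr
  one := by
    show G.j (G.e u) = G.diag u
    have e : G.e ≫ G.j = G.diag := by
      apply pullback.hom_ext
      · rw [Category.assoc, j_fst, G.e_t, diag_fst]
      · rw [Category.assoc, j_snd, G.e_s, diag_snd]
    rw [← Scheme.Hom.comp_apply, e]
  inv r hr := by
    obtain ⟨hst, hsu⟩ := (range_subset_stabLoops_iff G u (G.R.fromSpecResidueField r)).1 (by
      rintro _ ⟨y, rfl⟩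
      exact (congrArg (· ∈ stabLoops G u) (G.R.fromSpecResidueField_apply r y)).mpr hr)
    have hi := (range_subset_stabLoops_iff G u (G.R.fromSpecResidueField r ≫ G.i)).2
      ⟨by rw [Category.assoc, G.i_s, Category.assoc, G.i_t]; exact hst.symm,
        by rw [Category.assoc, G.i_s, ← hst]; exact hsu⟩
      ⟨IsLocalRing.closedPoint (G.R.residueField r), rfl⟩
    rw [Scheme.Hom.comp_apply] at hi
    exact (congrArg (fun x => G.i x ∈ stabLoops G u) (G.R.fromSpecResidueField_apply r _)).mp hi
  mul K _ γ β hγβ hγ hβ := by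
    obtain ⟨h₁, -⟩ := (range_subset_stabLoops_iff G u γ).1 hγ
    obtain ⟨h₂, h₂'⟩ := (range_subset_stabLoops_iff G u β).1 hβ
    refine (range_subset_stabLoops_iff G u _).2 ⟨?_, ?_⟩
    · rw [GrpdBasic.comp_s, GrpdBasic.comp_t, ← h₁, hγβ, h₂]
    · rw [GrpdBasic.comp_s]
      exact h₂'

end Groth.QSplit
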