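import Groth.Agent.GitQuot.QSplit.Transl

/-!
# The finite groupoid on the scheme of good pieces
-/

set_option autoImplicit false
set_option backward.isDefEq.respectTransparency.types false

universe u

open CategoryTheory CategoryTheory.Limits AlgebraicGeometry

noncomputable section

namespace Groth.QSplit

open Groth.GrpdBasic Groth.FppfBoot

variable {S : Scheme.{u}} {G : Grpd.GroupoidScheme S} {W : G.R.Opens} {D : PieceData (W.ι ≫ G.s)}
  {T : Scheme.{u}} {l : T ⟶ D.H} {α : T ⟶ G.R}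

theorem Mem.congr {l' : T ⟶ D.H} {δ' : T ⟶ G.R} (h : Mem D l α) (e₁ : l = l') (e₂ : α = δ') :
    Mem D l' δ' := e₁ ▸ e₂ ▸ h

/-- The piece translated by one of its elements. -/
def tr (hl : IsGood D l) (hα : Mem D l α) : T ⟶ D.H := (exists_transl hl hα).choose

theorem tr_π (hl : IsGood D l) (hα : Mem D l α) : tr hl hα ≫ D.π = α ≫ G.t :=
  (exists_transl hl hα).choose_spec.1

theorem mem_tr (hl : IsGood D l) (hα : Mem D l α) {T' : Scheme.{u}} (m : T' ⟶ T) (δ : T' ⟶ G.R) :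
    Mem D (m ≫ tr hl hα) δ ↔ ∃ h : δ ≫ G.s = (m ≫ α) ≫ G.t, Mem D (m ≫ l) (comp G δ (m ≫ α) h) :=
  (exists_transl hl hα).choose_spec.2 m δ

theorem tr_congr {l' : T ⟶ D.H} {α' : T ⟶ G.R} (hl : IsGood D l) (hα : Mem D l α) (e₁ : l = l') (e₂ : α = α') :
    tr hl hα = tr (e₁ ▸ hl) (hα.congr e₁ e₂) := by
  subst e₁; subst e₂; rfl

theorem precomp_tr {T' : Scheme.{u}} (m : T' ⟶ T) (hl : IsGood D l) (hα : Mem D l α) :
    m ≫ tr hl hα = tr (hl.precomp m) (hα.precomp m) := by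
  refine hom_ext (by rw [Category.assoc, tr_π, tr_π, Category.assoc]) fun K _ n δ => ?_
  rw [mem_tr, ← Category.assoc n m, mem_tr]
  constructor
  · rintro ⟨h, hm⟩
    exact ⟨(by rw [h, Category.assoc n m α]), hm.congr (Category.assoc _ _ _)
      (comp_congr G _ rfl (Category.assoc _ _ _))⟩
  · rintro ⟨h, hm⟩
    exact ⟨(by rw [h, Category.assoc n m α]), hm.congr (Category.assoc _ _ _).symm
      (comp_congr G _ rfl (Category.assoc _ _ _).symm)⟩

theorem isGood_tr (hl : IsGood D l) (hα : Mem D l α) : IsGood D (tr hl hα) := by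
  refine isGood_of ?_ fun K _ m β γ hβ hγ => ?_
  · have hu : α ≫ G.t = tr hl hα ≫ D.π := (tr_π hl hα).symm
    have h : (tr hl hα ≫ D.π ≫ G.e) ≫ G.s = (𝟙 T ≫ α) ≫ G.t := by
      rw [Category.id_comp, hu]; simp only [Category.assoc, G.e_s, Category.comp_id]
    refine ((mem_tr hl hα (𝟙 T) _).2 ⟨h, hα.congr (Category.id_comp _).symm ?_⟩).congr (Category.id_comp _) rfl
    exact ((comp_congr G _ (Category.assoc _ _ _).symm (Category.id_comp _)).trans (unit_comp G α hu)).symm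
  · obtain ⟨h₁, hβ'⟩ := (mem_tr hl hα m β).1 hβ
    obtain ⟨h₂, hγ'⟩ := (mem_tr hl hα m γ).1 hγ
    have hr := (hl.precomp m).range_quot hβ' hγ'
    suffices e : comp G γ (β ≫ G.i) (pair_cond hβ hγ) =
        comp G (comp G γ (m ≫ α) h₂) (comp G β (m ≫ α) h₁ ≫ G.i) (pair_cond hβ' hγ') by rwa [e]
    let β' := comp G β (m ≫ α) h₁
    have hx : comp G γ (β ≫ G.i) (pair_cond hβ hγ) ≫ G.s = β' ≫ G.t := by
      rw [GrpdBasic.comp_s, Category.assoc, G.i_s, GrpdBasic.comp_t]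
    have e : comp G (comp G γ (β ≫ G.i) (pair_cond hβ hγ)) β' hx = comp G γ (m ≫ α) h₂ := by
      refine ((comp_assoc G _ β (m ≫ α) (by rw [GrpdBasic.comp_s, Category.assoc, G.i_s]) h₁).symm).trans ?_
      exact comp_congr G _ (comp_inv_cancel G _ _ _) rfl
    exact (comp_cancel_inv G _ β' hx).symm.trans (comp_congr G _ e rfl)

theorem tr_id (hl : IsGood D l) : tr hl hl.mem_id = l := by
  refine hom_ext (by rw [tr_π, Category.assoc, Category.assoc, G.e_t, Category.comp_id]) fun K _ m δ => ?_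
  rw [mem_tr]
  have e : ∀ (h₀ : δ ≫ G.s = (m ≫ l) ≫ D.π) (h : δ ≫ G.s = (m ≫ l ≫ D.π ≫ G.e) ≫ G.t),
      comp G δ (m ≫ l ≫ D.π ≫ G.e) h = δ := fun h₀ h =>
    (comp_congr G h rfl (show m ≫ l ≫ D.π ≫ G.e = ((m ≫ l) ≫ D.π) ≫ G.e by simp only [Category.assoc])).trans
      (comp_unit G δ h₀)
  constructor
  · rintro ⟨h, hm⟩
    have h₀ : δ ≫ G.s = (m ≫ l) ≫ D.π := by
      rw [h]; simp only [Category.assoc, G.e_t, Category.comp_id]
    rwa [e h₀ h] at hm
  · intro hm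
    have h : δ ≫ G.s = (m ≫ l ≫ D.π ≫ G.e) ≫ G.t := by
      rw [hm.s_eq]; simp only [Category.assoc, G.e_t, Category.comp_id]
    exact ⟨h, hm.congr rfl (e hm.s_eq h).symm⟩

theorem mem_inv (hl : IsGood D l) (hα : Mem D l α) : Mem D (tr hl hα) (α ≫ G.i) := by
  have h : (α ≫ G.i) ≫ G.s = (𝟙 T ≫ α) ≫ G.t := by rw [Category.id_comp, Category.assoc, G.i_s]
  refine ((mem_tr hl hα (𝟙 T) _).2 ⟨h, hl.mem_id.congr (Category.id_comp _).symm ?_⟩).congr (Category.id_comp _) rfl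
  rw [comp_congr G h rfl (Category.id_comp α), inv_comp, hα.s_eq]
  simp only [Category.assoc]

theorem tr_inv (hl : IsGood D l) (hα : Mem D l α) :
    tr (isGood_tr hl hα) (mem_inv hl hα) = l := by
  refine hom_ext (by rw [tr_π, Category.assoc, G.i_t, hα.s_eq]) fun K _ m δ => ?_
  rw [mem_tr]
  have hi : m ≫ α ≫ G.i = (m ≫ α) ≫ G.i := (Category.assoc _ _ _).symm
  constructor
  · rintro ⟨h, hm⟩
    obtain ⟨h', hm'⟩ := (mem_tr hl hα m _).1 hm
    exact hm'.congr rfl ((comp_congr G h' (comp_congr G h rfl hi) rfl).trans (comp_inv_cancel G _ _ _))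
  · intro hm
    have h : δ ≫ G.s = (m ≫ α ≫ G.i) ≫ G.t := by
      rw [hm.s_eq, Category.assoc, Category.assoc, Category.assoc, G.i_t, hα.s_eq]
    have h' : comp G δ (m ≫ α ≫ G.i) h ≫ G.s = (m ≫ α) ≫ G.t := by
      rw [GrpdBasic.comp_s]; simp only [Category.assoc, G.i_s]
    exact ⟨h, (mem_tr hl hα m _).2 ⟨h', hm.congr rfl
      ((comp_congr G h' (comp_congr G h rfl hi) rfl).trans (comp_inv_cancel G _ _ _)).symm⟩⟩

theorem mem_comp (hl : IsGood D l) (hα : Mem D l α) {γ : T ⟶ G.R} (hγ : Mem D (tr hl hα) γ) :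
    Mem D l (comp G γ α (hγ.s_eq.trans (tr_π hl hα))) := by
  obtain ⟨h, hm⟩ := (mem_tr hl hα (𝟙 T) γ).1 (hγ.congr (Category.id_comp _).symm rfl)
  exact hm.congr (Category.id_comp _) (comp_congr G _ rfl (Category.id_comp _))

theorem tr_comp (hl : IsGood D l) (hα : Mem D l α) {γ : T ⟶ G.R} (hγ : Mem D (tr hl hα) γ) :
    tr hl (mem_comp hl hα hγ) = tr (isGood_tr hl hα) hγ := by
  refine hom_ext ((tr_π _ _).trans ((GrpdBasic.comp_t G _ _ _).trans (tr_π _ _).symm)) fun K _ m δ => ?_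
  have hγα : γ ≫ G.s = α ≫ G.t := by rw [hγ.s_eq, tr_π]
  have hmγα : (m ≫ γ) ≫ G.s = (m ≫ α) ≫ G.t := by rw [Category.assoc, hγα, Category.assoc]
  rw [mem_tr, mem_tr]
  constructor
  · rintro ⟨h, hm⟩
    have h₁ : δ ≫ G.s = (m ≫ γ) ≫ G.t := by rw [h, Category.assoc, GrpdBasic.comp_t, Category.assoc]
    refine ⟨h₁, (mem_tr hl hα m _).2 ⟨by rw [GrpdBasic.comp_s, hmγα], hm.congr rfl ?_⟩⟩
    exact (comp_congr G h rfl (precomp_comp G m γ α hγα)).trans (comp_assoc G δ _ _ h₁ hmγα).symm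
  · rintro ⟨h₁, hm⟩
    obtain ⟨h₂, hm₂⟩ := (mem_tr hl hα m _).1 hm
    have h : δ ≫ G.s = (m ≫ comp G γ α hγα) ≫ G.t := by
      rw [h₁, Category.assoc m γ, Category.assoc m (comp G γ α hγα), GrpdBasic.comp_t]
    refine ⟨h, hm₂.congr rfl ?_⟩
    exact (comp_assoc G δ _ _ h₁ hmγα).trans (comp_congr G h rfl (precomp_comp G m γ α hγα)).symm

/-! ### The groupoid -/

variable (D)

/-- Elements of good pieces. -/
abbrev arrows : Scheme.{u} := (σ D ⁻¹ᵁ good D).toScheme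

/-- The arrow of an element of a good piece. -/
abbrev ρP : arrows D ⟶ G.R := (σ D ⁻¹ᵁ good D).ι ≫ ρ D

/-- The piece of an element of a good piece. -/
abbrev sP : arrows D ⟶ (good D).toScheme := σ D ∣_ good D

theorem sP_ι : sP D ≫ (good D).ι = (σ D ⁻¹ᵁ good D).ι ≫ σ D := morphismRestrict_ι _ _

theorem mem_ρP : Mem D (sP D ≫ (good D).ι) (ρP D) :=
  ⟨(σ D ⁻¹ᵁ good D).ι, (sP_ι D).symm, rfl⟩

theorem isGood_ι (l : T ⟶ (good D).toScheme) : IsGood D (l ≫ (good D).ι) := by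
  rintro _ ⟨y, rfl⟩
  rw [Scheme.Hom.comp_apply]
  exact (l y).2

theorem isGood_ι₀ : IsGood D (good D).ι := fun _ ⟨y, hy⟩ => hy ▸ y.2

/-- The target in the scheme of good pieces. -/
def tP : arrows D ⟶ (good D).toScheme :=
  IsOpenImmersion.lift (good D).ι (tr (isGood_ι D (sP D)) (mem_ρP D))
    ((isGood_tr (isGood_ι D (sP D)) (mem_ρP D)).trans (Scheme.Opens.range_ι _).ge)

theorem tP_ι : tP D ≫ (good D).ι = tr (isGood_ι D (sP D)) (mem_ρP D) := IsOpenImmersion.lift_fac _ _ _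

theorem arrows_ext {a b : T ⟶ arrows D} (hs : a ≫ sP D = b ≫ sP D) (hr : a ≫ ρP D = b ≫ ρP D) : a = b := by
  rw [← cancel_mono (σ D ⁻¹ᵁ good D).ι]
  refine uPiece_ext D ?_ ?_
  · rw [Category.assoc, Category.assoc, ← sP_ι, reassoc_of% hs]
  · rw [Category.assoc, Category.assoc]
    exact hr

variable {D}

theorem exists_arrow {l : T ⟶ (good D).toScheme} (h : Mem D (l ≫ (good D).ι) α) :
    ∃ a : T ⟶ arrows D, a ≫ sP D = l ∧ a ≫ ρP D = α := by
  obtain ⟨β, hβ, rfl⟩ := h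
  have hr : Set.range β ⊆ Set.range (σ D ⁻¹ᵁ good D).ι := by
    rintro _ ⟨y, rfl⟩
    rw [Scheme.Opens.range_ι]
    show σ D (β y) ∈ good D
    rw [← Scheme.Hom.comp_apply, hβ, Scheme.Hom.comp_apply]
    exact (l y).2
  refine ⟨IsOpenImmersion.lift _ β hr, ?_, ?_⟩
  · rw [← cancel_mono (good D).ι, Category.assoc, sP_ι, ← Category.assoc, IsOpenImmersion.lift_fac, hβ]
  · rw [← Category.assoc, IsOpenImmersion.lift_fac]

/-- The element of a good piece with given arrow. -/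
def mkArrow {l : T ⟶ (good D).toScheme} (h : Mem D (l ≫ (good D).ι) α) : T ⟶ arrows D :=
  (exists_arrow h).choose

@[reassoc]
theorem mkArrow_s {l : T ⟶ (good D).toScheme} (h : Mem D (l ≫ (good D).ι) α) :
    mkArrow h ≫ sP D = l := (exists_arrow h).choose_spec.1

@[reassoc]
theorem mkArrow_ρ {l : T ⟶ (good D).toScheme} (h : Mem D (l ≫ (good D).ι) α) :
    mkArrow h ≫ ρP D = α := (exists_arrow h).choose_spec.2

theorem precomp_tP (a : T ⟶ arrows D) {l : T ⟶ D.H} {α : T ⟶ G.R} (hl : IsGood D l) (hα : Mem D l α)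
    (hs : a ≫ sP D ≫ (good D).ι = l) (hr : a ≫ ρP D = α) : a ≫ tP D ≫ (good D).ι = tr hl hα := by
  subst hs; subst hr
  rw [tP_ι, precomp_tr]

variable (D)

/-- The identity. -/
def eP : (good D).toScheme ⟶ arrows D :=
  mkArrow (l := 𝟙 _) (α := (good D).ι ≫ D.π ≫ G.e)
    ((isGood_ι₀ D).mem_id.congr (Category.id_comp _).symm rfl)

/-- The inverse. -/
def iP : arrows D ⟶ arrows D :=
  mkArrow (l := tP D) (α := ρP D ≫ G.i) ((mem_inv (isGood_ι D (sP D)) (mem_ρP D)).congr (tP_ι D).symm rfl)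

theorem cP_cond : (pullback.fst (sP D) (tP D) ≫ ρP D) ≫ G.s =
    (pullback.snd (sP D) (tP D) ≫ ρP D) ≫ G.t := by
  rw [Category.assoc, (mem_ρP D).s_eq, Category.assoc _ (ρP D) G.t,
    ← tr_π (isGood_ι D (sP D)) (mem_ρP D), ← tP_ι]
  simp only [Category.assoc]
  exact pullback.condition_assoc _

theorem mem_fst : Mem D ((pullback.snd (sP D) (tP D)) ≫ tr (isGood_ι D (sP D)) (mem_ρP D))
    (pullback.fst (sP D) (tP D) ≫ ρP D) :=
  ((mem_ρP D).precomp _).congr (by rw [← tP_ι]; exact pullback.condition_assoc _) rfl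

/-- The composition. -/
def cP : pullback (sP D) (tP D) ⟶ arrows D :=
  mkArrow (l := pullback.snd (sP D) (tP D) ≫ sP D)
    (α := comp G (pullback.fst (sP D) (tP D) ≫ ρP D) (pullback.snd (sP D) (tP D) ≫ ρP D) (cP_cond D))
    (((mem_tr (isGood_ι D (sP D)) (mem_ρP D) _ _).1 (mem_fst D)).choose_spec.congr
      (Category.assoc _ _ _).symm rfl)

theorem eP_t : eP D ≫ tP D = 𝟙 _ := by
  rw [← cancel_mono (good D).ι, Category.assoc,
    precomp_tP (eP D) (isGood_ι₀ D) (isGood_ι₀ D).mem_id (by rw [eP, mkArrow_s_assoc, Category.id_comp])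
      (by rw [eP, mkArrow_ρ]),
    tr_id, Category.id_comp]

theorem iP_t : iP D ≫ tP D = sP D := by
  rw [← cancel_mono (good D).ι, Category.assoc,
    precomp_tP (iP D) (isGood_tr (isGood_ι D (sP D)) (mem_ρP D)) (mem_inv _ _)
      (by rw [iP, mkArrow_s_assoc, tP_ι]) (by rw [iP, mkArrow_ρ]),
    tr_inv]

theorem cP_t : cP D ≫ tP D = pullback.fst (sP D) (tP D) ≫ tP D := by
  have hl := (isGood_ι D (sP D)).precomp (pullback.snd (sP D) (tP D))
  have hα := (mem_ρP D).precomp (pullback.snd (sP D) (tP D))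
  have hγ : Mem D (tr hl hα) (pullback.fst (sP D) (tP D) ≫ ρP D) :=
    (mem_fst D).congr (precomp_tr _ _ _) rfl
  rw [← cancel_mono (good D).ι, Category.assoc, Category.assoc,
    precomp_tP (cP D) hl (mem_comp hl hα hγ) (by rw [cP, mkArrow_s_assoc, Category.assoc])
      (by rw [cP, mkArrow_ρ]),
    tr_comp, precomp_tP (pullback.fst (sP D) (tP D)) (isGood_tr hl hα) hγ
      (((pullback.condition_assoc _).trans (congrArg (pullback.snd (sP D) (tP D) ≫ ·) (tP_ι D))).trans (precomp_tr _ _ _)) rfl]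

theorem lift_cP_ρ (a b : T ⟶ arrows D) (h : a ≫ sP D = b ≫ tP D) :
    (pullback.lift a b h ≫ cP D) ≫ ρP D = comp G (a ≫ ρP D) (b ≫ ρP D)
      (by
        have := congrArg (pullback.lift a b h ≫ ·) (cP_cond D)
        simpa only [pullback.lift_fst_assoc, pullback.lift_snd_assoc, Category.assoc] using this) := by
  rw [Category.assoc, cP, mkArrow_ρ, precomp_comp]
  exact comp_congr G _ (pullback.lift_fst_assoc _ _ _ _) (pullback.lift_snd_assoc _ _ _ _)

theorem lift_cP_s (a b : T ⟶ arrows D) (h : a ≫ sP D = b ≫ tP D) :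
    (pullback.lift a b h ≫ cP D) ≫ sP D = b ≫ sP D := by
  rw [Category.assoc, cP, mkArrow_s, pullback.lift_snd_assoc]

/-- **The finite groupoid of good pieces.** -/
@[reducible] def subgrpd : Grpd.GroupoidScheme S where
  U := (good D).toScheme
  R := arrows D
  pU := (good D).ι ≫ D.π ≫ G.pU
  pR := ρP D ≫ G.pR
  s := sP D
  t := tP D
  e := eP D
  i := iP D
  c := cP D
  s_over := by
    rw [← G.s_over, ← Category.assoc (ρP D), (mem_ρP D).s_eq]
    simp only [Category.assoc]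
  t_over := by
    rw [← G.t_over, ← Category.assoc (ρP D), ← tr_π (isGood_ι D (sP D)) (mem_ρP D), ← tP_ι]
    simp only [Category.assoc]
  comp_s a b h := lift_cP_s D a b h
  comp_t a b h := by rw [Category.assoc, cP_t, pullback.lift_fst_assoc]
  assoc a b c h₁ h₂ := by
    refine arrows_ext D (by simp only [lift_cP_s]) ?_
    refine (lift_cP_ρ D _ _ _).trans (Eq.trans ?_ (lift_cP_ρ D _ _ _).symm)
    refine (comp_congr G _ (lift_cP_ρ D a b h₁) rfl).trans (Eq.trans ?_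
      (comp_congr G _ rfl (lift_cP_ρ D b c h₂)).symm)
    exact comp_assoc G _ _ _ _ _
  e_s := mkArrow_s _
  e_t := eP_t D
  comp_e a := by
    refine arrows_ext D (by rw [lift_cP_s, Category.assoc, Category.assoc, eP, mkArrow_s, Category.comp_id]) ?_
    rw [lift_cP_ρ]
    exact (comp_congr G _ rfl (show (a ≫ sP D ≫ eP D) ≫ ρP D = ((a ≫ sP D ≫ (good D).ι) ≫ D.π) ≫ G.e by
      simp only [Category.assoc, eP, mkArrow_ρ])).trans
      (comp_unit G _ (by rw [Category.assoc, (mem_ρP D).s_eq]; simp only [Category.assoc]))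
  e_comp a := by
    refine arrows_ext D (by rw [lift_cP_s]) ?_
    rw [lift_cP_ρ]
    exact (comp_congr G _ (show (a ≫ tP D ≫ eP D) ≫ ρP D = ((a ≫ tP D ≫ (good D).ι) ≫ D.π) ≫ G.e by
      simp only [Category.assoc, eP, mkArrow_ρ]) rfl).trans
      (unit_comp G _ (by rw [Category.assoc, tP_ι, ← tr_π (isGood_ι D (sP D)) (mem_ρP D), Category.assoc]))
  i_s := mkArrow_s _
  i_t := iP_t D
  comp_i a := by
    refine arrows_ext D ?_ ?_
    · rw [lift_cP_s, Category.assoc, iP, mkArrow_s]; simp only [Category.assoc, eP, mkArrow_s, Category.comp_id]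
    · rw [lift_cP_ρ]
      refine (comp_congr G _ rfl (show (a ≫ iP D) ≫ ρP D = (a ≫ ρP D) ≫ G.i by
        simp only [Category.assoc, iP, mkArrow_ρ])).trans ((comp_inv G _).trans ?_)
      simp only [Category.assoc, eP, mkArrow_ρ]
      rw [reassoc_of% (tP_ι D), reassoc_of% (tr_π (isGood_ι D (sP D)) (mem_ρP D))]
  i_comp a := by
    refine arrows_ext D ?_ ?_
    · rw [lift_cP_s]; simp only [Category.assoc, eP, mkArrow_s, Category.comp_id]
    · rw [lift_cP_ρ]
      refine (comp_congr G _ (show (a ≫ iP D) ≫ ρP D = (a ≫ ρP D) ≫ G.i by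
        simp only [Category.assoc, iP, mkArrow_ρ]) rfl).trans ((inv_comp G _).trans ?_)
      rw [Category.assoc a (ρP D) G.s, (mem_ρP D).s_eq]
      simp only [Category.assoc, eP, mkArrow_ρ]

end Groth.QSplit
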