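import Groth.Agent.GitQuot.QSplit.Good

/-!
# Translating a piece by one of its elements
-/

set_option autoImplicit false
set_option backward.isDefEq.respectTransparency.types false

universe u

open CategoryTheory CategoryTheory.Limits AlgebraicGeometry

noncomputable section

namespace Groth.QSplit

open Groth.GrpdBasic Groth.FppfBoot

variable {S : Scheme.{u}} {G : Grpd.GroupoidScheme S} {W : G.R.Opens}

/-- Right translation by an arrow as an isomorphism of base changes of the source. -/
def rightShear {T : Scheme.{u}} {a : T ⟶ G.U} (α : T ⟶ G.R) (hα : α ≫ G.s = a) :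
    pullback G.s a ≅ pullback G.s (α ≫ G.t) where
  hom := pullback.lift (comp G (pullback.fst G.s a) ((pullback.snd G.s a ≫ α) ≫ G.i)
      (by rw [Category.assoc _ G.i, G.i_t, Category.assoc, hα, pullback.condition]))
    (pullback.snd G.s a) (by rw [comp_s, Category.assoc _ G.i, G.i_s, Category.assoc])
  inv := pullback.lift (comp G (pullback.fst G.s (α ≫ G.t)) (pullback.snd G.s (α ≫ G.t) ≫ α)
      (by rw [pullback.condition, Category.assoc]))
    (pullback.snd G.s (α ≫ G.t)) (by rw [comp_s, Category.assoc, hα])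
  hom_inv_id := by
    refine pullback.hom_ext ?_ (by simp only [Category.assoc, pullback.lift_snd, Category.id_comp])
    rw [Category.assoc, pullback.lift_fst, precomp_comp, Category.id_comp]
    refine (comp_congr G _ (pullback.lift_fst _ _ _) (pullback.lift_snd_assoc _ _ _ _)).trans ?_
    exact comp_inv_cancel G _ _ _
  inv_hom_id := by
    refine pullback.hom_ext ?_ (by simp only [Category.assoc, pullback.lift_snd, Category.id_comp])
    rw [Category.assoc, pullback.lift_fst, precomp_comp, Category.id_comp]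
    refine (comp_congr G _ (pullback.lift_fst _ _ _)
      (show _ = (pullback.snd G.s (α ≫ G.t) ≫ α) ≫ G.i by
        simp only [← Category.assoc, pullback.lift_snd])).trans ?_
    exact comp_cancel_inv G _ _ _

variable {D : PieceData (W.ι ≫ G.s)} {T : Scheme.{u}} {l : T ⟶ D.H} {α : T ⟶ G.R}

theorem exists_transl (hl : IsGood D l) (hα : Mem D l α) :
    ∃ l' : T ⟶ D.H, l' ≫ D.π = α ≫ G.t ∧ ∀ {T' : Scheme.{u}} (m : T' ⟶ T) (δ : T' ⟶ G.R),
      Mem D (m ≫ l') δ ↔ ∃ h : δ ≫ G.s = (m ≫ α) ≫ G.t, Mem D (m ≫ l) (comp G δ (m ≫ α) h) := by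
  let Y := pullback (σ D) l
  let m₀ : Y ⟶ T := pullback.snd (σ D) l
  have hγ₀ : Mem D (m₀ ≫ l) (pullback.fst (σ D) l ≫ ρ D) :=
    ⟨pullback.fst (σ D) l, pullback.condition, rfl⟩
  have hβ₀ := hα.precomp m₀
  let δY := comp G (pullback.fst (σ D) l ≫ ρ D) ((m₀ ≫ α) ≫ G.i) (pair_cond hβ₀ hγ₀)
  have hδY : Set.range δY ⊆ Set.range W.ι := by
    rw [Scheme.Opens.range_ι]
    exact (hl.precomp m₀).range_quot hβ₀ hγ₀
  let j : Y ⟶ pullback (W.ι ≫ G.s) (α ≫ G.t) := pullback.lift (IsOpenImmersion.lift W.ι δY hδY) m₀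
    (by rw [← Category.assoc, IsOpenImmersion.lift_fac, comp_s, Category.assoc _ G.i, G.i_s, Category.assoc])
  have hj₁ : j ≫ pullback.fst _ _ ≫ W.ι = δY := by
    rw [pullback.lift_fst_assoc, IsOpenImmersion.lift_fac]
  have hj₂ : j ≫ pullback.snd _ _ = m₀ := pullback.lift_snd _ _ _
  -- `j` is an open immersion
  let w : pullback (W.ι ≫ G.s) D.π ⟶ pullback G.s D.π :=
    pullback.map _ _ _ _ W.ι (𝟙 _) (𝟙 _) (Category.comp_id _) (by simp)
  have : IsOpenImmersion w := MorphismProperty.pullbackMap (P := @IsOpenImmersion) (i₁ := W.ι)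
    (i₂ := 𝟙 D.H) inferInstance inferInstance rfl (by simp)
  let c : pullback G.s (l ≫ D.π) ⟶ pullback G.s D.π :=
    pullback.lift (pullback.fst _ _) (pullback.snd _ _ ≫ l) (by rw [pullback.condition, Category.assoc])
  let k : Y ⟶ pullback G.s (l ≫ D.π) := pullback.lift (pullback.fst (σ D) l ≫ ρ D) m₀ hγ₀.s_eq
  have hk : IsPullback k (pullback.fst (σ D) l) c (D.Z.ι ≫ w) := by
    have hsq : IsPullback (pullback.snd G.s (l ≫ D.π)) c l (pullback.snd G.s D.π) := by
      refine (IsPullback.of_right (h₁₂ := pullback.fst G.s D.π) (v₁₃ := G.s) (h₂₂ := D.π) ?_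
        (pullback.lift_snd _ _ _) (IsPullback.of_hasPullback G.s D.π)).flip
      rw [show c ≫ pullback.fst G.s D.π = pullback.fst G.s (l ≫ D.π) from pullback.lift_fst _ _ _]
      exact IsPullback.of_hasPullback G.s (l ≫ D.π)
    refine IsPullback.of_right ?_ ?_ hsq
    · have e₁ : k ≫ pullback.snd G.s (l ≫ D.π) = m₀ := by
        rw [pullback.lift_snd]
      have e₂ : (D.Z.ι ≫ w) ≫ pullback.snd G.s D.π = σ D := by
        simp only [Category.assoc, w, pullback.lift_snd, Category.comp_id]
      rw [e₁, e₂]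
      exact (IsPullback.of_hasPullback (σ D) l).flip
    · refine pullback.hom_ext ?_ ?_
      · simp only [Category.assoc, k, c, w, pullback.lift_fst]
      · simp only [Category.assoc, k, c, w, pullback.lift_snd, pullback.lift_snd_assoc,
          Category.comp_id]
        exact pullback.condition.symm
  have : IsOpenImmersion k := MorphismProperty.of_isPullback hk.flip inferInstance
  let w₁ : pullback (W.ι ≫ G.s) (α ≫ G.t) ⟶ pullback G.s (α ≫ G.t) :=
    pullback.map _ _ _ _ W.ι (𝟙 _) (𝟙 _) (Category.comp_id _) (by simp)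
  have : IsOpenImmersion w₁ := MorphismProperty.pullbackMap (P := @IsOpenImmersion) (i₁ := W.ι)
    (i₂ := 𝟙 T) inferInstance inferInstance rfl (by simp)
  have hjw : j ≫ w₁ = k ≫ (rightShear α hα.s_eq).hom := by
    refine pullback.hom_ext ?_ ?_
    · rw [Category.assoc, pullback.lift_fst, hj₁, Category.assoc, rightShear, pullback.lift_fst, precomp_comp]
      refine comp_congr G _ ?_ ?_
      · rw [pullback.lift_fst]
      · rw [← Category.assoc, ← Category.assoc, pullback.lift_snd]
    · rw [Category.assoc, pullback.lift_snd, Category.comp_id, hj₂, Category.assoc, rightShear,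
        pullback.lift_snd, pullback.lift_snd]
  have : IsOpenImmersion (j ≫ w₁) := by rw [hjw]; infer_instance
  have : IsOpenImmersion j := IsOpenImmersion.of_comp j w₁
  -- the translated piece
  have hpiece : IsPiece (pullback.snd (W.ι ≫ G.s) (α ≫ G.t)) j.opensRange := by
    have e : j.opensRange.ι ≫ pullback.snd (W.ι ≫ G.s) (α ≫ G.t) = j.isoOpensRange.inv ≫ m₀ := by
      rw [← hj₂, ← Category.assoc, Scheme.Hom.isoOpensRange_inv_comp]
    have hf : IsFinite m₀ := MorphismProperty.pullback_snd _ _ D.piece.finite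
    have hs : Surjective m₀ := MorphismProperty.pullback_snd _ _ D.piece.surjective
    exact ⟨by rw [e]; infer_instance, by rw [e]; infer_instance⟩
  obtain ⟨l', hl', hZ⟩ := D.lift' (α ≫ G.t) j.opensRange hpiece
  refine ⟨l', hl', fun {T'} m δ => ⟨?_, ?_⟩⟩
  · intro hδ
    have hs : δ ≫ G.s = (m ≫ α) ≫ G.t := by rw [hδ.s_eq, Category.assoc, hl', Category.assoc]
    refine ⟨hs, ?_⟩
    let x : T' ⟶ pullback (W.ι ≫ G.s) (α ≫ G.t) := pullback.lift
      (IsOpenImmersion.lift W.ι δ (by rw [Scheme.Opens.range_ι]; exact hδ.range_subset)) m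
      (by rw [← Category.assoc, IsOpenImmersion.lift_fac, hs, Category.assoc])
    have hx := (mem_iff (D := D) hδ.s_eq (x ≫ pb (W.ι ≫ G.s) l' hl')
      (by rw [Category.assoc, pb_fst_assoc, pullback.lift_fst_assoc, IsOpenImmersion.lift_fac])
      (by rw [Category.assoc, pb_snd, pullback.lift_snd_assoc])).1 hδ
    have hxj : Set.range x ⊆ Set.range j := by
      rintro _ ⟨y, rfl⟩
      have : x y ∈ pb (W.ι ≫ G.s) l' hl' ⁻¹ᵁ D.Z := hx ⟨y, rfl⟩
      rwa [hZ] at this
    let y := IsOpenImmersion.lift j x hxj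
    have hy : y ≫ j = x := IsOpenImmersion.lift_fac _ _ _
    have hym : y ≫ m₀ = m := by rw [← hj₂, ← Category.assoc, hy, pullback.lift_snd]
    have hyδ : y ≫ δY = δ := by
      rw [← hj₁, ← Category.assoc, hy, pullback.lift_fst_assoc, IsOpenImmersion.lift_fac]
    refine ⟨y ≫ pullback.fst (σ D) l, by rw [Category.assoc, pullback.condition, ← Category.assoc, hym], ?_⟩
    have h' : δY ≫ G.s = (m₀ ≫ α) ≫ G.t := by rw [comp_s, Category.assoc _ G.i, G.i_s]
    have hym' : y ≫ m₀ ≫ α = m ≫ α := by rw [← Category.assoc, hym]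
    exact ((Category.assoc _ _ _).trans ((congrArg (y ≫ ·) (comp_inv_cancel G _ _ _).symm).trans
      (precomp_comp G y δY (m₀ ≫ α) h'))).trans (comp_congr G _ hyδ hym')
  · rintro ⟨hs, β, hβ₁, hβ₂⟩
    let y : T' ⟶ Y := pullback.lift β m hβ₁
    have hym : y ≫ m₀ = m := pullback.lift_snd _ _ _
    have hyδ : y ≫ δY = δ := by
      rw [precomp_comp]
      refine (comp_congr G _ (show _ = comp G δ (m ≫ α) hs by rw [pullback.lift_fst_assoc, hβ₂])
        (show _ = (m ≫ α) ≫ G.i by rw [← Category.assoc, ← Category.assoc, hym])).trans ?_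
      exact comp_cancel_inv G _ _ _
    rw [mem_iff (D := D) (by rw [Category.assoc, hl', hs, Category.assoc]) ((y ≫ j) ≫ pb (W.ι ≫ G.s) l' hl')
      (by rw [Category.assoc, pb_fst_assoc, Category.assoc, hj₁, hyδ])
      (by rw [Category.assoc, pb_snd, Category.assoc, reassoc_of% hj₂, ← Category.assoc, hym])]
    rintro _ ⟨z, rfl⟩
    have : (y ≫ j) z ∈ pb (W.ι ≫ G.s) l' hl' ⁻¹ᵁ D.Z := by
      rw [hZ]
      exact ⟨y z, rfl⟩
    exact this

end Groth.QSplit
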